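import Groth.Agent.Lib.Constr24.Card
import Groth.Agent.Lib.EtStalk.Pull

/-!
# Loci of agreement of sections of constructible sheaves are constructible
-/

universe u

set_option maxHeartbeats 400000

open CategoryTheory CategoryTheory.Limits AlgebraicGeometry Opposite Topology
open Groth.Agent.EtSite Groth.Agent.EtStalk

namespace Groth.Agent.Constr24

open Groth.Agent.LocConst24

variable {X Y : Scheme.{u}}

/-- The map `top X → X ×_Y U` given by a lift of `f` to `U`. -/
noncomputable def graph (f : X ⟶ Y) {U : Y.Etale} (l : X ⟶ U.left) (h : l ≫ U.hom = f) :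
    EtCoh.top X ⟶ (EtCoh.bc f).obj U :=
  MorphismProperty.Over.homMk (pullback.lift l (𝟙 X) (h.trans (Category.id_comp f).symm))
    (pullback.lift_snd _ _ _)

/-- The global section of the pullback given by a section over `U` and a lift to `U`. -/
noncomputable def pullSec (f : X ⟶ Y) {U : Y.Etale} (l : X ⟶ U.left) (h : l ≫ U.hom = f)
    (G : EtCoh.Ab Y) (s : G.obj.obj (op U)) : ((EtCoh.pull f).obj G).obj.obj (op (EtCoh.top X)) :=
  ((EtCoh.pull f).obj G).obj.map (graph f l h).op (((EtCoh.pullPushAdj f).unit.app G).hom.app (op U) s)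

theorem germ_pullSec (f : X ⟶ Y) {U : Y.Etale} (l : X ⟶ U.left) (h : l ≫ U.hom = f)
    (G : EtCoh.Ab Y) (s : G.obj.obj (op U)) {Ω : Type u} [Field Ω] [IsSepClosed Ω]
    (ζ : Spec (CommRingCat.of Ω) ⟶ X) :
    stalkPull f ζ G (germ (ζ ≫ f) G
        (Over.homMk (ζ ≫ l) ((Category.assoc _ _ _).trans (congrArg (ζ ≫ ·) h))) s) =
      germ ζ ((EtCoh.pull f).obj G) (Over.homMk ζ (Category.comp_id _) : fib ζ (EtCoh.top X))
        (pullSec f l h G s) := by
  rw [germ_stalkPull]
  refine Eq.trans ?_ (germ_map ζ _ (graph f l h) _ _).symm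
  refine congrArg (fun z : fib ζ ((EtCoh.bc f).obj U) =>
    germ ζ ((EtCoh.pull f).obj G) z (((EtCoh.pullPushAdj f).unit.app G).hom.app (op U) s)) ?_
  refine Over.OverMorphism.ext (pullback.hom_ext ?_ ?_)
  · refine (pullback.lift_fst _ _ _).trans ?_
    exact ((Category.assoc _ _ _).trans (congrArg (ζ ≫ ·) (pullback.lift_fst _ _ _))).symm
  · refine (pullback.lift_snd _ _ _).trans ?_
    exact ((Category.assoc _ _ _).trans ((congrArg (ζ ≫ ·) (pullback.lift_snd _ _ _)).trans
      (Category.comp_id _))).symm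

theorem agree_pullSec (f : X ⟶ Y) {U : Y.Etale} (l : X ⟶ U.left) (h : l ≫ U.hom = f)
    (G : EtCoh.Ab Y) (s t : G.obj.obj (op U)) :
    (agree ((EtCoh.pull f).obj G) (pullSec f l h G s) (pullSec f l h G t) : Set X) =
      l ⁻¹' agree G s t := by
  ext y
  let ζ := geomPt X y
  let a : fib (ζ ≫ f) U :=
    Over.homMk (ζ ≫ l) ((Category.assoc _ _ _).trans (congrArg (ζ ≫ ·) h))
  let x₀ : fib ζ (EtCoh.top X) := Over.homMk ζ (Category.comp_id _)
  have ha : fibPt a = l y := congrArg l (geomPt_default y)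
  have hx₀ : fibPt x₀ = y := geomPt_default y
  show y ∈ agree _ _ _ ↔ l y ∈ agree G s t
  rw [← ha]
  refine Iff.trans ?_ (mem_agree_iff_germ G a s t).symm
  refine Iff.trans (iff_of_eq (congrArg (· ∈ _) hx₀.symm))
    ((mem_agree_iff_germ _ x₀ _ _).trans ?_)
  rw [← germ_pullSec f l h G s ζ, ← germ_pullSec f l h G t ζ]
  exact (ConcreteCategory.bijective_of_isIso (stalkPull f ζ G)).1.eq_iff

theorem isClosed_agree {G : EtCoh.Ab X} (hG : Loc G) {U : X.Etale} (s t : G.obj.obj (op U)) :
    IsClosed (agree G s t) := by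
  rw [← isOpen_compl_iff, isOpen_iff_forall_mem_open]
  intro w hw
  let ξ := geomPt X (U.hom w)
  obtain ⟨φ, hφ⟩ : ∃ φ : fib ξ U, fibPt φ = w := exists_fib U w
  have hφ' : fibPt φ = w := hφ
  obtain ⟨V, v, hv, M, _, hM, τ, hτ⟩ := hG (U.hom w)
  obtain ⟨ψ, -⟩ := Scheme.pointSmallEtaleFiberObjToPreimage_surjective ξ
    (s₀ := U.hom w) (geomPt_default _) V ⟨v, hv⟩
  obtain ⟨W, z, a, b, ha, hb⟩ := exists_common_fib ξ φ ψ
  obtain ⟨m, hm⟩ := (hτ _ ξ ψ).2 (germ ξ G φ s)
  obtain ⟨n, hn⟩ := (hτ _ ξ ψ).2 (germ ξ G φ t)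
  obtain ⟨W', g, z', hz', he⟩ := exists_nhd_eq (F := G) ξ z
    (fun i : Bool => if i then G.obj.map a.op s else G.obj.map a.op t)
    (fun i : Bool => if i then resSec b τ m else resSec b τ n) (fun i => by
      cases i
      · simp only [Bool.false_eq_true, if_false]
        rw [germ_map, germ_resSec, ha, hb]; exact hn.symm
      · simp only [if_true]
        rw [germ_map, germ_resSec, ha, hb]; exact hm.symm)
  have es := he true
  have et := he false
  simp only [if_true, Bool.false_eq_true, if_false] at es et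
  haveI : AlgebraicGeometry.Etale (g ≫ a).left := etale_left (g ≫ a)
  have hpt : (g ≫ a).left (fibPt z') = w := by
    have e : (Scheme.pointSmallEtale ξ).fiber.map (g ≫ a) z' = φ := by
      rw [Functor.map_comp, ConcreteCategory.comp_apply, hz', ha]
    exact (congrArg fibPt e).trans hφ'
  refine ⟨Set.range (g ≫ a).left, ?_, (g ≫ a).left.isOpenMap.isOpen_range, ⟨_, hpt⟩⟩
  rintro _ ⟨y, rfl⟩ hy
  have hy' : y ∈ agree G (G.obj.map (g ≫ a).op s) (G.obj.map (g ≫ a).op t) :=
    (mem_agree_map G (g ≫ a) s t y).2 hy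
  rw [op_comp, Functor.map_comp_apply, Functor.map_comp_apply, es, et] at hy'
  obtain ⟨η, hη⟩ := exists_fib W' y
  have hmn : m = n := ((hτ.res b).res g _ _ η).1
    ((mem_agree_iff_germ G η _ _).1 (by rw [show fibPt η = y from hη]; exact hy'))
  apply hw
  rw [← hφ']
  refine (mem_agree_iff_germ G φ s t).2 ?_
  rw [← hm, ← hn, hmn]

theorem isConstructible_agree [CompactSpace X] [QuasiSeparatedSpace X] {F : EtCoh.Ab X}
    (hF : EtPBC.IsConstructible F) (s t : F.obj.obj (op (EtCoh.top X))) :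
    Topology.IsConstructible (agree F s t : Set X) := by
  obtain ⟨n, T, g, hg, hgc, -, hgu, hgl⟩ := adapted_univ hF
  have e : (agree F s t : Set X) = ⋃ i, g i '' (g i ⁻¹' (agree F s t : Set X)) := by
    simp only [Set.image_preimage_eq_range_inter, ← Set.iUnion_inter, hgu, Set.univ_inter]
  rw [e]
  refine IsConstructible.iUnion fun i => ?_
  haveI := hg i
  have hr := isConstructible_of_subtype_univ (hgc i)
  haveI : CompactSpace (T i) := ⟨(g i).isEmbedding.isCompact_iff.2 (by
    rw [Set.image_univ]; exact isCompact_constructible hr)⟩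
  haveI : QuasiSeparatedSpace (T i) := quasiSeparatedSpace_of_quasiSeparated (g i)
  have hag := agree_pullSec (U := EtCoh.top X) (g i) (g i) (Category.comp_id _) F s t
  have hc : IsClopen (g i ⁻¹' (agree F s t : Set X)) :=
    Eq.mp (congrArg (fun S : Set (T i) => IsClopen S) hag)
      ⟨isClosed_agree (loc_of_flc (hgl i)) _ _, isOpen_agree _ _ _⟩
  exact isConstructible_image_immersion _ hr (hc.1.isCompact.isConstructible hc.2)

theorem finite_stalk {F : EtCoh.Ab X} (hF : EtPBC.IsConstructible F) {Ω : Type u} [Field Ω]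
    [IsSepClosed Ω] (ξ : Spec (CommRingCat.of Ω) ⟶ X) : Finite ((EtCoh.stalk ξ).obj F) := by
  obtain ⟨U, hU, hxU, -⟩ := exists_affine_le (⊤ : X.Opens) (x := ξ default) trivial
  obtain ⟨n, T, g, hg, -, -, hgu, hgl⟩ := hF U hU
  obtain ⟨i, hi⟩ := Set.mem_iUnion.1 (hgu.ge hxU)
  haveI := hg i
  obtain ⟨ζ, rfl⟩ := exists_lift_immersion (g i) ξ hi
  obtain ⟨V, v, hv, M, _, hM, σ, hσ⟩ := loc_of_flc (hgl i) (ζ default)
  obtain ⟨a, -⟩ := Scheme.pointSmallEtaleFiberObjToPreimage_surjective ζ
    (s₀ := ζ default) rfl V ⟨v, hv⟩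
  haveI : Finite ((EtCoh.stalk ζ).obj ((EtCoh.pull (g i)).obj F)) :=
    Finite.of_surjective _ (hσ Ω ζ a).2
  exact Finite.of_injective _ (ConcreteCategory.bijective_of_isIso (stalkPull (g i) ζ F)).1

/-- A constructible set containing all generizations of a point is a neighbourhood of it. -/
theorem exists_open_subset_of_gen {α : Type*} [TopologicalSpace α] [CompactSpace α] [QuasiSober α]
    [PrespectralSpace α] [QuasiSeparatedSpace α] {E : Set α} (hE : Topology.IsConstructible E)
    (a : α) (h : ∀ z, z ⤳ a → z ∈ E) : ∃ W : Set α, IsOpen W ∧ a ∈ W ∧ W ⊆ E := by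
  classical
  let J := {W : Set α // IsOpen W ∧ IsCompact W ∧ a ∈ W}
  obtain ⟨t, ht⟩ := exists_finite_subcover (fun o : Option J => o.elim E fun W => W.1ᶜ)
    (by
      rintro (_ | W)
      · exact hE
      · exact (W.2.2.1.isConstructible W.2.1).compl)
    (Set.eq_univ_of_forall fun z => by
      by_cases hz : z ⤳ a
      · exact Set.mem_iUnion.2 ⟨none, h z hz⟩
      · rw [specializes_iff_forall_open] at hz
        push Not at hz
        obtain ⟨O, hO, haO, hzO⟩ := hz
        obtain ⟨W, ⟨hW, hWc⟩, haW, hWO⟩ :=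
          PrespectralSpace.isTopologicalBasis.exists_subset_of_mem_open haO hO
        exact Set.mem_iUnion.2 ⟨some ⟨W, hW, hWc, haW⟩, fun hzW => hzO (hWO hzW)⟩)
  refine ⟨⋂ o ∈ t, o.elim Set.univ fun W => W.1, ?_, ?_, fun z hz => ?_⟩
  · refine isOpen_biInter_finset fun o _ => ?_
    cases o with
    | none => exact isOpen_univ
    | some W => exact W.2.1
  · refine Set.mem_iInter₂.2 fun o _ => ?_
    cases o with
    | none => trivial
    | some W => exact W.2.2.2
  · obtain ⟨o, ho, hzo⟩ := Set.mem_iUnion₂.1 (ht.ge (Set.mem_univ z))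
    cases o with
    | none => exact hzo
    | some W => exact absurd (Set.mem_iInter₂.1 hz _ ho) hzo

end Groth.Agent.Constr24
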