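import Groth.Agent.Lib.Constr24.Noeth
import Groth.Agent.Lib.EtStalk.FiniteSplit
import Groth.Agent.Lib.EtStalk.Agree

/-!
# Subsheaves and quotients of constructible sheaves on locally Noetherian schemes
-/

universe u

set_option maxHeartbeats 400000

open CategoryTheory CategoryTheory.Limits AlgebraicGeometry Opposite Topology
open Groth.Agent.EtStalk Groth.Agent.EtSite

namespace Groth.Agent.Constr24

open Groth.Agent.LocConst24

variable {X Y : Scheme.{u}}

/-- Pullback is locally constant where the original is locally constant near the image. -/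
theorem loc_pull_of_forall (f : X ⟶ Y) {G : EtCoh.Ab Y}
    (h : ∀ x : X, ∃ (U : Y.Etale) (u : U.left), U.hom u = f x ∧
      ∃ (M : Type) (_ : AddCommGroup M) (_ : Finite M) (σ : M →+ G.obj.obj (op U)), BijAt G σ) :
    Loc ((EtCoh.pull f).obj G) := by
  intro x
  obtain ⟨U, u', hu, M, _, hM, σ, hσ⟩ := h x
  obtain ⟨w, -, hw⟩ := Scheme.Pullback.exists_preimage_pullback (f := U.hom) (g := f) u' x hu
  refine ⟨(EtCoh.bc f).obj U, w, hw, M, inferInstance, hM,
    (((EtCoh.pullPushAdj f).unit.app G).hom.app (op U)).hom.comp σ, fun Ω _ _ ξ z => ?_⟩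
  have hz : liftFib f ξ (dropFib f ξ z) = z := by
    refine Over.OverMorphism.ext (pullback.hom_ext ?_ ?_)
    · exact pullback.lift_fst _ _ _
    · exact (pullback.lift_snd _ _ _).trans (Over.w z).symm
  have h2 := (ConcreteCategory.bijective_of_isIso (stalkPull f ξ G)).comp
    (hσ Ω (ξ ≫ f) (dropFib f ξ z))
  convert h2 using 1
  funext m
  refine Eq.trans ?_ (germ_stalkPull f ξ G (dropFib f ξ z) (σ m)).symm
  rw [hz]
  rfl

/-- The points near which a section comes from the subsheaf. -/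
def fromSub {F G : EtCoh.Ab X} (ι : G ⟶ F) {U : X.Etale} (s : F.obj.obj (op U)) : Set U.left :=
  {x | ∃ (V : X.Etale) (g : V ⟶ U) (t : G.obj.obj (op V)),
    x ∈ Set.range g.left ∧ ι.hom.app (op V) t = F.obj.map g.op s}

theorem isOpen_fromSub {F G : EtCoh.Ab X} (ι : G ⟶ F) {U : X.Etale} (s : F.obj.obj (op U)) :
    IsOpen (fromSub ι s) := by
  refine isOpen_iff_forall_mem_open.2 fun x ⟨V, g, t, hx, he⟩ => ?_
  have := etale_left g
  exact ⟨Set.range g.left, fun y hy => ⟨V, g, t, hy, he⟩, g.left.isOpenMap.isOpen_range, hx⟩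

theorem mem_fromSub_iff {F G : EtCoh.Ab X} (ι : G ⟶ F) {U : X.Etale} (s : F.obj.obj (op U))
    {Ω : Type u} [Field Ω] [IsSepClosed Ω] {ξ : Spec (CommRingCat.of Ω) ⟶ X} (φ : fib ξ U) :
    fibPt φ ∈ fromSub ι s ↔ ∃ q, (EtCoh.stalk ξ).map ι q = germ ξ F φ s := by
  constructor
  · rintro ⟨V, g, t, ⟨v, hv⟩, he⟩
    have := etale_left g
    let φl : Spec (CommRingCat.of Ω) ⟶ U.left := φ.left
    obtain ⟨y', -⟩ := Scheme.pointSmallEtaleFiberObjToPreimage_surjective φl
      (s₀ := φl default) rfl (Scheme.Etale.mk g.left) ⟨v, hv⟩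
    have hy : y'.left ≫ g.left = φl := Over.w y'
    let y : fib ξ V := Over.homMk y'.left (by
      change y'.left ≫ V.hom = ξ
      have h1 : g.left ≫ U.hom = V.hom := MorphismProperty.Over.w g
      exact (congrArg (y'.left ≫ ·) h1.symm).trans ((Category.assoc _ _ _).symm.trans
        ((congrArg (· ≫ U.hom) hy).trans (Over.w φ))))
    have hφ : (Scheme.pointSmallEtale ξ).fiber.map g y = φ := Over.OverMorphism.ext hy
    refine ⟨germ ξ G y t, ?_⟩
    rw [germ_nat, he, germ_map, hφ]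
  · rintro ⟨q, hq⟩
    obtain ⟨V₀, y₀, t₀, rfl⟩ := germ_surjective ξ G q
    obtain ⟨W, z, a, b, ha, hb⟩ := exists_common_fib ξ y₀ φ
    rw [germ_nat, ← ha, ← hb, ← germ_map, ← germ_map, germ_eq_iff] at hq
    obtain ⟨W', g, z', hz', he⟩ := hq
    refine ⟨W', g ≫ b, G.obj.map (g ≫ a).op t₀, ⟨fibPt z', ?_⟩, ?_⟩
    · have e : (Scheme.pointSmallEtale ξ).fiber.map (g ≫ b) z' = φ := by
        rw [Functor.map_comp, ConcreteCategory.comp_apply, hz', hb]
      exact congrArg fibPt e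
    · rw [NatTrans.naturality_apply ι.hom, op_comp, op_comp, F.obj.map_comp, F.obj.map_comp,
        ConcreteCategory.comp_apply, ConcreteCategory.comp_apply, he]

/-- Near a dense point a subsheaf of a locally constant sheaf is locally constant. -/
theorem exists_locAt_sub {F G : EtCoh.Ab X} (ι : G ⟶ F) [Mono ι] (x : X)
    (hx : closure {x} = Set.univ) (hF : Loc F) :
    ∃ (U : X.Etale) (u : U.left), U.hom u = x ∧
      ∃ (M : Type) (_ : AddCommGroup M) (_ : Finite M) (σ : M →+ G.obj.obj (op U)), BijAt G σ := by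
  classical
  obtain ⟨U, u', hu, M, _, _, σ, hσ⟩ := hF x
  obtain ⟨a, -⟩ := Scheme.pointSmallEtaleFiberObjToPreimage_surjective (geomPt X x)
    (geomPt_default x) U ⟨u', hu⟩
  set ξ := geomPt X x
  let img : AddSubgroup ((EtCoh.stalk ξ).obj F) := ((EtCoh.stalk ξ).map ι).hom.range
  let MG : AddSubgroup M := img.comap ((germ ξ F a).hom.comp σ)
  have hinj : ∀ (Ω : Type u) [Field Ω] [IsSepClosed Ω] (η : Spec (CommRingCat.of Ω) ⟶ X),
      Function.Injective ((EtCoh.stalk η).map ι) := fun Ω _ _ η => (mono_iff_stalk ι).1 inferInstance Ω η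
  have hpre : ∀ m : MG, ∃ q, (EtCoh.stalk ξ).map ι q = germ ξ F a (σ m.1) := fun m => m.2
  choose q hq using hpre
  let h : MG →+ (EtCoh.stalk ξ).obj G := AddMonoidHom.mk' q fun m n => hinj _ ξ (by
    rw [map_add, hq, hq, hq, AddSubgroup.coe_add, map_add, map_add])
  obtain ⟨U₁, g₁, a₁, ρ, ha₁, hρ⟩ := exists_lift_hom (F := G) ξ a h
  obtain ⟨U₂, g₂, a₂, ha₂, hcomm⟩ := exists_nhd_comm (F := G) (G := F) ξ ι a₁ ρ (resSec g₁ σ) MG.subtype
    (fun m => by rw [germ_resSec, ha₁, hρ]; exact hq m)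
  haveI : AlgebraicGeometry.Etale U₂.hom := U₂.prop
  haveI : LocallyQuasiFinite U₂.hom := FiniteSplit.locallyQuasiFinite_of_etale _
  have hpt : U₂.hom (fibPt a₂) = x := by
    have h1 : a₂.left ≫ U₂.hom = ξ := Over.w a₂
    exact (congrArg (fun r : Spec (CommRingCat.of (SeparableClosure (X.residueField x))) ⟶ X =>
      r default) h1).trans (geomPt_default x)
  haveI hdisc : DiscreteTopology ↥(U₂.hom ⁻¹' {x}) :=
    isDiscrete_iff_discreteTopology.1 (Scheme.Hom.isDiscrete_preimage_singleton U₂.hom x)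
  obtain ⟨O, hO, hO'⟩ := isOpen_induced_iff.1 (isOpen_discrete ({⟨fibPt a₂, hpt⟩} : Set ↥(U₂.hom ⁻¹' {x})))
  have ha₂O : fibPt a₂ ∈ O := by
    have : (⟨fibPt a₂, hpt⟩ : ↥(U₂.hom ⁻¹' {x})) ∈ Subtype.val ⁻¹' O := by rw [hO']; rfl
    exact this
  let τ := resSec g₂ (resSec g₁ σ)
  let N : U₂.left.Opens := ⟨O, hO⟩
  refine ⟨sub U₂ N, ⟨fibPt a₂, ha₂O⟩, hpt, MG, inferInstance, inferInstance,
    resSec (subHom U₂ N) (resSec g₂ ρ), fun Ω _ _ η z₀ => ?_⟩
  simp only [germ_resSec (subHom U₂ N)]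
  set z := (Scheme.pointSmallEtale η).fiber.map (subHom U₂ N) z₀
  have hzN : fibPt z ∈ O := (z₀.left (default : Spec (CommRingCat.of Ω))).2
  have hτ : BijAt F τ := (hσ.res g₁).res g₂
  constructor
  · intro m n e
    refine Subtype.ext ((hτ Ω η z).1 ?_)
    have e' := congrArg ((EtCoh.stalk η).map ι) e
    dsimp only at e'
    rw [hcomm Ω η z m, hcomm Ω η z n] at e'
    exact e'
  · intro p
    obtain ⟨m, hm⟩ := (hτ Ω η z).2 ((EtCoh.stalk η).map ι p)
    have hzS : fibPt z ∈ fromSub ι (τ m) := (mem_fromSub_iff ι (τ m) z).2 ⟨p, hm.symm⟩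
    have hne : x ∈ U₂.hom '' (fromSub ι (τ m) ∩ O) := by
      obtain ⟨y, hy, hyx⟩ := mem_closure_iff.1 (show U₂.hom (fibPt z) ∈ closure ({x} : Set X) by
        rw [hx]; trivial) _ (U₂.hom.isOpenMap _ ((isOpen_fromSub ι (τ m)).inter hO))
          ⟨_, ⟨hzS, hzN⟩, rfl⟩
      rwa [Set.mem_singleton_iff.1 hyx] at hy
    obtain ⟨w, ⟨hwS, hwO⟩, hwx⟩ := hne
    have hwa : w = fibPt a₂ := by
      have : (⟨w, hwx⟩ : ↥(U₂.hom ⁻¹' {x})) ∈ Subtype.val ⁻¹' O := hwO
      rw [hO', Set.mem_singleton_iff] at this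
      exact congrArg Subtype.val this
    have hm' : m ∈ MG := by
      obtain ⟨q', hq'⟩ := (mem_fromSub_iff ι (τ m) a₂).1 (hwa ▸ hwS)
      refine ⟨q', hq'.trans ?_⟩
      show germ ξ F a₂ (resSec g₂ (resSec g₁ σ) m) = germ ξ F a (σ m)
      rw [germ_resSec, ha₂, germ_resSec, ha₁]
    refine ⟨⟨m, hm'⟩, hinj Ω η ?_⟩
    exact (hcomm Ω η z ⟨m, hm'⟩).trans hm

theorem isConstructible_iso {F G : EtCoh.Ab X} (e : F ≅ G) (h : EtPBC.IsConstructible F) :
    EtPBC.IsConstructible G := fun U hU => by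
  obtain ⟨n, T, g, h1, h2, h3, h4, h5⟩ := h U hU
  exact ⟨n, T, g, h1, h2, h3, h4, fun i => flc_iso ((EtCoh.pull (g i)).mapIso e) (h5 i)⟩

theorem isConstructible_sub [IsLocallyNoetherian X] {F G : EtCoh.Ab X} (ι : G ⟶ F) [Mono ι]
    (hF : EtPBC.IsConstructible F) : EtPBC.IsConstructible G := by
  rw [isConstructible_iff_closures]
  intro x
  obtain ⟨V, T, g, hg, hxV, hgr, hgl⟩ := (isConstructible_iff_closures F).1 hF x
  haveI := hg
  obtain ⟨t, rfl⟩ : x ∈ Set.range g := hgr.ge ⟨hxV, subset_closure rfl⟩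
  have hdense : closure ({t} : Set T) = Set.univ := by
    refine Set.eq_univ_of_forall fun s => ?_
    rw [g.isEmbedding.isInducing.closure_eq_preimage_closure_image, Set.image_singleton]
    exact (hgr.le ⟨s, rfl⟩).2
  haveI : Mono ((EtCoh.pull g).map ι) := EtStalk.mono_pull_map g ι
  obtain ⟨U, u', hu, M, _, hM, σ, hσ⟩ :=
    exists_locAt_sub ((EtCoh.pull g).map ι) t hdense (loc_of_flc hgl)
  haveI : AlgebraicGeometry.Etale U.hom := U.prop
  let N : T.Opens := ⟨Set.range U.hom, (U.hom).isOpenMap.isOpen_range⟩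
  obtain ⟨O, hO, hO'⟩ := g.isEmbedding.isInducing.isOpen_iff.1 N.2
  refine ⟨V ⊓ ⟨O, hO⟩, N.toScheme, N.ι ≫ g, inferInstance,
    ⟨hxV, show t ∈ g ⁻¹' O by rw [hO']; exact ⟨u', hu⟩⟩, ?_, ?_⟩
  · show Set.range (g ∘ N.ι) = ((V : Set X) ∩ O) ∩ closure {g t}
    rw [Set.range_comp, N.range_ι, show (N : Set T) = g ⁻¹' O from hO'.symm,
      Set.image_preimage_eq_range_inter]
    rw [show Set.range g = (V : Set X) ∩ closure {g t} from hgr, Set.inter_right_comm]
  · refine flc_iso ((EtCore.pullComp N.ι g).app G).symm (flc_of_loc (loc_pull_of_forall N.ι fun s => ?_))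
    obtain ⟨v, hv⟩ := s.2
    exact ⟨U, v, hv, M, inferInstance, hM, σ, hσ⟩

theorem isConstructible_quotient [IsLocallyNoetherian X] {F Q : EtCoh.Ab X} (π : F ⟶ Q) [Epi π]
    (hF : EtPBC.IsConstructible F) : EtPBC.IsConstructible Q :=
  isConstructible_iso
    ((cokernelIsCokernel (kernel.ι π)).coconePointUniqueUpToIso
      (Abelian.epiIsCokernelOfKernel _ (limit.isLimit (parallelPair π 0))))
    (constructible_cokernel _ (isConstructible_sub (kernel.ι π) hF) hF)

end Groth.Agent.Constr24
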