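import Groth.Agent.Lib.Constr24.IndConstr
import Groth.Agent.Lib.LocConst24.SpecCriterion
import Mathlib.AlgebraicGeometry.Morphisms.FinitePresentation

/-!
# Constructibility descends along surjective families
-/

universe u

set_option maxHeartbeats 400000

open CategoryTheory CategoryTheory.Limits AlgebraicGeometry Opposite Topology
open Groth.Agent.EtStalk Groth.Agent.EtSite Groth.Agent.LocConst24

namespace Groth.Agent.Constr24

variable {X Y : Scheme.{u}}

theorem finite_stalk_congr (F : EtCoh.Ab Y) {Ω Ω' : Type u} [Field Ω] [IsSepClosed Ω] [Field Ω']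
    [IsSepClosed Ω'] (ξ : Spec (CommRingCat.of Ω) ⟶ Y) (η : Spec (CommRingCat.of Ω') ⟶ Y)
    (h : ξ default = η default) (hf : Finite ((EtCoh.stalk η).obj F)) :
    Finite ((EtCoh.stalk ξ).obj F) := by
  have key : ∀ {K : Type u} [Field K] [IsSepClosed K] (b : Spec (CommRingCat.of K) ⟶
      Spec (CommRingCat.of (SeparableClosure (Y.residueField (η default)))))
      (ζ : Spec (CommRingCat.of K) ⟶ Y), b ≫ geomPt Y (η default) = ζ →
      (Finite ((EtCoh.stalk ζ).obj F) ↔ Finite ((EtCoh.stalk (geomPt Y (η default))).obj F)) := by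
    intro K _ _ b ζ hb
    subst hb
    exact (Equiv.ofBijective _ (bijective_stalkRes b (geomPt Y (η default)) F)).symm.finite_iff
  obtain ⟨b, hb⟩ := exists_factor_geomPt ξ (η default) h
  obtain ⟨b', hb'⟩ := exists_factor_geomPt η (η default) rfl
  exact (key b ξ hb).2 ((key b' η hb').1 hf)

theorem surjective_stalk_congr {F G : EtCoh.Ab Y} (φ : G ⟶ F) {Ω Ω' : Type u} [Field Ω] [IsSepClosed Ω]
    [Field Ω'] [IsSepClosed Ω'] (ξ : Spec (CommRingCat.of Ω) ⟶ Y) (η : Spec (CommRingCat.of Ω') ⟶ Y)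
    (h : ξ default = η default) (hs : Function.Surjective ((EtCoh.stalk η).map φ)) :
    Function.Surjective ((EtCoh.stalk ξ).map φ) := by
  obtain ⟨b, hb⟩ := exists_factor_geomPt ξ (η default) h
  obtain ⟨b', hb'⟩ := exists_factor_geomPt η (η default) rfl
  have key : ∀ {K : Type u} [Field K] [IsSepClosed K] (b : Spec (CommRingCat.of K) ⟶
      Spec (CommRingCat.of (SeparableClosure (Y.residueField (η default)))))
      (ζ : Spec (CommRingCat.of K) ⟶ Y), b ≫ geomPt Y (η default) = ζ →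
      (Function.Surjective ((EtCoh.stalk ζ).map φ) ↔
        Function.Surjective ((EtCoh.stalk (geomPt Y (η default))).map φ)) := by
    intro K _ _ b ζ hb
    subst hb
    have hn : ∀ q, (EtCoh.stalk (b ≫ geomPt Y (η default))).map φ (stalkRes b _ G q) =
        stalkRes b _ F ((EtCoh.stalk (geomPt Y (η default))).map φ q) := fun q =>
      (NatTrans.naturality_apply (GrothendieckTopology.Point.Hom.sheafFiber
        (A := AddCommGrpCat.{u + 1}) (resPoint b (geomPt Y (η default)))) φ q).symm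
    constructor
    · intro hs p
      obtain ⟨r, hr⟩ := hs (stalkRes b _ F p)
      obtain ⟨r', rfl⟩ := (bijective_stalkRes b _ G).2 r
      exact ⟨r', (bijective_stalkRes b _ F).1 ((hn r').symm.trans hr)⟩
    · intro hs p
      obtain ⟨p', rfl⟩ := (bijective_stalkRes b _ F).2 p
      obtain ⟨r, rfl⟩ := hs p'
      exact ⟨_, hn r⟩
  exact (key b ξ hb).2 ((key b' η hb').1 hs)

theorem isTorsion_of_finite_stalks (F : EtCoh.Ab Y)
    (h : ∀ (Ω : Type u) [Field Ω] [IsSepClosed Ω] (ξ : Spec (CommRingCat.of Ω) ⟶ Y),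
      Finite ((EtCoh.stalk ξ).obj F)) : EtCoh.IsTorsion F := by
  intro U s v
  obtain ⟨φ, hφ⟩ : ∃ φ : fib (geomPt Y (U.hom v)) U, fibPt φ = v := exists_fib U v
  haveI := h _ (geomPt Y (U.hom v))
  obtain ⟨k, hk, hks⟩ := isOfFinAddOrder_iff_nsmul_eq_zero.1
    (isOfFinAddOrder_of_finite (germ _ F φ s))
  obtain ⟨V, g, y, hy, he⟩ := (germ_eq_iff _ F φ (k • s) 0).1 (by rw [map_nsmul, hks, map_zero])
  refine ⟨V, g, ⟨fibPt y, ?_⟩, isOfFinAddOrder_iff_nsmul_eq_zero.2 ⟨k, hk, ?_⟩⟩
  · exact (congrArg fibPt hy).trans hφ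
  · rw [← map_nsmul, he, map_zero]

variable [CompactSpace Y] [QuasiSeparatedSpace Y] {n : ℕ} (T : Fin n → Scheme.{u})
  [∀ a, CompactSpace (T a)] [∀ a, QuasiSeparatedSpace (T a)] (f : ∀ a, T a ⟶ Y)

theorem exists_lift_point_family (hf : (⋃ a, Set.range (f a)) = Set.univ) {Ω : Type u} [Field Ω]
    (ξ : Spec (CommRingCat.of Ω) ⟶ Y) :
    ∃ (a : Fin n) (x : T a), ξ default = (algPt (T a) x ≫ f a) default := by
  obtain ⟨a, x, hx⟩ := Set.mem_iUnion.1 (hf.ge (Set.mem_univ (ξ default)))
  refine ⟨a, x, ?_⟩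
  rw [Scheme.Hom.comp_apply, algPt_default, hx]

theorem finite_stalk_of_pull (hf : (⋃ a, Set.range (f a)) = Set.univ) (F : EtCoh.Ab Y)
    (hF : ∀ a, EtPBC.IsConstructible ((EtCoh.pull (f a)).obj F)) {Ω : Type u} [Field Ω] [IsSepClosed Ω]
    (ξ : Spec (CommRingCat.of Ω) ⟶ Y) : Finite ((EtCoh.stalk ξ).obj F) := by
  obtain ⟨a, x, hx⟩ := exists_lift_point_family T f hf ξ
  haveI := finite_stalk (hF a) (algPt (T a) x)
  exact finite_stalk_congr F ξ _ hx
    (Finite.of_injective _ (ConcreteCategory.bijective_of_isIso (stalkPull (f a) (algPt (T a) x) F)).1)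

theorem exists_epi_constructible (hf : (⋃ a, Set.range (f a)) = Set.univ) (F : EtCoh.Ab Y)
    (hF : ∀ a, EtPBC.IsConstructible ((EtCoh.pull (f a)).obj F)) :
    ∃ (P : EtCoh.Ab Y) (p : P ⟶ F), EtPBC.IsConstructible P ∧ Epi p := by
  classical
  have htor := isTorsion_of_finite_stalks F fun Ω _ _ ξ => finite_stalk_of_pull T f hf F hF ξ
  obtain ⟨hcol⟩ := nonempty_isColimit_indCocone htor
  haveI := isFiltered_indCat (F := F)
  have hstep : ∀ a, ∃ S : Finset (IndCat F), ∀ k, (∀ j ∈ S, Nonempty (j ⟶ k)) → ∀ x : T a,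
      Function.Surjective ((EtCoh.stalk (algPt (T a) x ≫ f a)).map (indι k)) := by
    intro a
    let L : IndCat F → Set (T a) := fun j => {x : T a | ∀ (Ω : Type u) [Field Ω] [IsSepClosed Ω]
      (ζ : Spec (CommRingCat.of Ω) ⟶ T a), Set.range ζ = {x} →
        Function.Surjective ((EtCoh.stalk ζ).map ((EtCoh.pull (f a)).map (indι j)))}
    have hL : ∀ j, Topology.IsConstructible (L j) := fun j =>
      isConstructible_surjective_locus _ (isConstructible_pull (f a) (isConstructible_indDiag j)) (hF a)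
    have hcov : (⋃ j, L j) = Set.univ := Set.eq_univ_of_forall fun x => by
      let ξ := algPt (T a) x ≫ f a
      haveI := finite_stalk_of_pull T f hf F hF ξ
      haveI : (EtCoh.stalk ξ).IsLeftAdjoint :=
        (Scheme.pointSmallEtale ξ).skyscraperSheafAdjunction.isLeftAdjoint
      have hrep := Concrete.isColimit_exists_rep (indDiag F ⋙ EtCoh.stalk ξ)
        (isColimitOfPreserves (EtCoh.stalk ξ) hcol)
      choose j p hp using hrep
      obtain ⟨k, hk⟩ := IsFiltered.sup_objs_exists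
        ((Set.finite_range fun q : (EtCoh.stalk ξ).obj F => j q).toFinset)
      have hsur : Function.Surjective ((EtCoh.stalk ξ).map (indι k)) := fun q => by
        obtain ⟨g⟩ := hk ((Set.Finite.mem_toFinset _).2 (Set.mem_range_self q))
        refine ⟨(EtCoh.stalk ξ).map ((indDiag F).map g) (p q), ?_⟩
        rw [← ConcreteCategory.comp_apply, ← Functor.map_comp, indι_w g]
        exact hp q
      refine Set.mem_iUnion.2 ⟨k, fun Ω _ _ ζ hζ p' => ?_⟩
      have hζ' : (ζ ≫ f a) default = ξ default := by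
        rw [Scheme.Hom.comp_apply, Scheme.Hom.comp_apply, apply_default_of_range ζ hζ, algPt_default]
      obtain ⟨p'', rfl⟩ := (ConcreteCategory.bijective_of_isIso (stalkPull (f a) ζ F)).2 p'
      obtain ⟨r, rfl⟩ := surjective_stalk_congr (indι k) (ζ ≫ f a) ξ hζ' hsur p''
      exact ⟨stalkPull (f a) ζ _ r, by
        rw [← ConcreteCategory.comp_apply, stalkPull_nat, ConcreteCategory.comp_apply]⟩
    obtain ⟨S, hS⟩ := exists_finite_subcover L hL hcov
    refine ⟨S, fun k hk x q => ?_⟩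
    obtain ⟨j, hj, hxj⟩ := Set.mem_iUnion₂.1 (hS.ge (Set.mem_univ x))
    obtain ⟨g⟩ := hk j hj
    obtain ⟨r, hr⟩ := hxj _ (algPt (T a) x) (by rw [range_eq_singleton, algPt_default])
      (stalkPull (f a) (algPt (T a) x) F q)
    obtain ⟨r, rfl⟩ := (ConcreteCategory.bijective_of_isIso (stalkPull (f a) (algPt (T a) x) _)).2 r
    rw [← ConcreteCategory.comp_apply, stalkPull_nat, ConcreteCategory.comp_apply] at hr
    refine ⟨(EtCoh.stalk (algPt (T a) x ≫ f a)).map ((indDiag F).map g) r, ?_⟩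
    rw [← ConcreteCategory.comp_apply, ← Functor.map_comp, indι_w g]
    exact (ConcreteCategory.bijective_of_isIso (stalkPull (f a) (algPt (T a) x) F)).1 hr
  choose S hS using hstep
  obtain ⟨k, hk⟩ := IsFiltered.sup_objs_exists (Finset.univ.biUnion S)
  refine ⟨_, indι k, isConstructible_indDiag k, (epi_iff_stalk _).2 fun Ω _ _ ξ => ?_⟩
  obtain ⟨a, x, hx⟩ := exists_lift_point_family T f hf ξ
  exact surjective_stalk_congr (indι k) ξ _ hx
    (hS a k (fun j hj => hk (Finset.mem_biUnion.2 ⟨a, Finset.mem_univ a, hj⟩)) x)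

/-- A sheaf whose pullbacks to a jointly surjective family are constructible is constructible. -/
theorem isConstructible_of_pull_family (hf : (⋃ a, Set.range (f a)) = Set.univ) (F : EtCoh.Ab Y)
    (hF : ∀ a, EtPBC.IsConstructible ((EtCoh.pull (f a)).obj F)) : EtPBC.IsConstructible F := by
  obtain ⟨P, p, hP, hp⟩ := exists_epi_constructible T f hf F hF
  haveI : ∀ a, PreservesFiniteLimits (EtCoh.pull (f a)) := fun a => inferInstance
  have hK : ∀ a, EtPBC.IsConstructible ((EtCoh.pull (f a)).obj (kernel p)) := fun a =>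
    ExtShriek24.isConstructible_iso' (PreservesKernel.iso (EtCoh.pull (f a)) p).symm
      (constructible_kernel _ (isConstructible_pull (f a) hP) (hF a))
  obtain ⟨Q, q, hQ, hq⟩ := exists_epi_constructible T f hf (kernel p) hK
  obtain ⟨e⟩ := nonempty_iso_cokernel p q
  exact ExtShriek24.isConstructible_iso' e.symm (constructible_cokernel _ hQ hP)

omit [CompactSpace Y] [QuasiSeparatedSpace Y] in
theorem isConstructible_iff_pull [CompactSpace Y] [QuasiSeparatedSpace Y] [CompactSpace X]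
    [QuasiSeparatedSpace X] (g : X ⟶ Y) [Surjective g] (F : EtCoh.Ab Y) :
    EtPBC.IsConstructible F ↔ EtPBC.IsConstructible ((EtCoh.pull g).obj F) := by
  refine ⟨isConstructible_pull g, fun h => ?_⟩
  refine isConstructible_of_pull_family (n := 1) (fun _ => X) (fun _ => g) ?_ F (fun _ => h)
  exact Set.eq_univ_of_forall fun y => Set.mem_iUnion.2 ⟨0, g.surjective y⟩

omit [CompactSpace Y] [QuasiSeparatedSpace Y] in
theorem isConstructible_iff_pull_lfp (g : X ⟶ Y) [Surjective g] [LocallyOfFinitePresentation g]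
    (F : EtCoh.Ab Y) :
    EtPBC.IsConstructible F ↔ EtPBC.IsConstructible ((EtCoh.pull g).obj F) := by
  classical
  refine ⟨isConstructible_pull g, fun h => ?_⟩
  refine isConstructible_of_cover (fun V : Y.affineOpens => V.1) (iSup_affineOpens_eq_top Y) fun V => ?_
  haveI : IsAffine V.1.toScheme := V.2
  let W := (g ⁻¹ᵁ V.1).toScheme
  let gV : W ⟶ V.1.toScheme := g ∣_ V.1
  haveI : LocallyOfFinitePresentation gV := IsZariskiLocalAtTarget.restrict (P := @LocallyOfFinitePresentation) inferInstance V.1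
  haveI : Surjective gV := IsZariskiLocalAtTarget.restrict (P := @Surjective) ‹Surjective g› V.1
  haveI : ∀ A : W.affineOpens, CompactSpace A.1.toScheme := fun A =>
    isCompact_iff_compactSpace.1 A.2.isCompact
  haveI : ∀ A : W.affineOpens, IsAffine A.1.toScheme := fun A => A.2
  haveI : ∀ A : W.affineOpens, QuasiCompact (A.1.ι ≫ gV) := fun A => quasiCompact_of_compactSpace _
  let E : W.affineOpens → Set V.1.toScheme := fun A => Set.range (A.1.ι ≫ gV)
  have hE : ∀ A, Topology.IsConstructible (E A) := fun A => by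
    have := Scheme.Hom.isConstructible_image (A.1.ι ≫ gV) (s := Set.univ) IsConstructible.univ
    rwa [Set.image_univ] at this
  obtain ⟨t, ht⟩ := exists_finite_subcover E hE (Set.eq_univ_of_forall fun y => by
    obtain ⟨x, rfl⟩ := gV.surjective y
    obtain ⟨A, hA, hxA, -⟩ := exists_affine_le (⊤ : W.Opens) (x := x) trivial
    exact Set.mem_iUnion.2 ⟨⟨A, hA⟩, ⟨x, hxA⟩, rfl⟩)
  let ε := t.equivFin.symm
  refine isConstructible_of_pull_family (fun k => (ε k).1.1.toScheme) (fun k => (ε k).1.1.ι ≫ gV) ?_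
    _ fun k => ?_
  · refine Set.eq_univ_of_forall fun y => ?_
    obtain ⟨A, hA, hyA⟩ := Set.mem_iUnion₂.1 (ht.ge (Set.mem_univ y))
    refine Set.mem_iUnion.2 ⟨ε.symm ⟨A, hA⟩, ?_⟩
    show y ∈ E (ε (ε.symm ⟨A, hA⟩)).1
    rw [Equiv.apply_symm_apply]; exact hyA
  · have e : ((ε k).1.1.ι ≫ gV) ≫ V.1.ι = ((ε k).1.1.ι ≫ (g ⁻¹ᵁ V.1).ι) ≫ g := by
      rw [Category.assoc, Category.assoc, morphismRestrict_ι]
    refine ExtShriek24.isConstructible_iso'
      (((EtCore.pullComp ((ε k).1.1.ι ≫ (g ⁻¹ᵁ V.1).ι) g).app F).symm ≪≫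
        (EtCore.pullCongr e.symm).app F ≪≫ (EtCore.pullComp ((ε k).1.1.ι ≫ gV) V.1.ι).app F) ?_
    exact isConstructible_pull _ h

end Groth.Agent.Constr24
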