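import Groth.Agent.Lib.Constr24.Atoms
import Mathlib.AlgebraicGeometry.Noetherian

/-!
# Constructibility on locally Noetherian schemes
-/

universe u

set_option maxHeartbeats 400000

open CategoryTheory CategoryTheory.Limits AlgebraicGeometry Opposite Topology TopologicalSpace

namespace Groth.Agent.Constr24

variable {X : Scheme.{u}}

theorem isConstructible_of_isLocallyClosed {α : Type*} [TopologicalSpace α] [NoetherianSpace α]
    {s : Set α} (hs : IsLocallyClosed s) : Topology.IsConstructible s := by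
  haveI : QuasiSeparatedSpace α := ⟨fun U V _ _ _ _ => NoetherianSpace.isCompact (U ∩ V)⟩
  obtain ⟨O, C, hO, hC, rfl⟩ := hs
  have hCc : Topology.IsConstructible Cᶜᶜ :=
    ((NoetherianSpace.isCompact Cᶜ).isConstructible hC.isOpen_compl).compl
  rw [compl_compl] at hCc
  exact ((NoetherianSpace.isCompact O).isConstructible hO).inter hCc

theorem isConstructible_of_flc {T : Scheme.{u}} {G : EtCoh.Ab T}
    (h : EtCoh.IsFiniteLocallyConstant G) : EtPBC.IsConstructible G :=
  isConstructible_of_univ (adapted_of_finite (κ := Unit) (fun _ => T) (fun _ => 𝟙 T)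
    (fun _ => inferInstance)
    (fun _ => by
      rw [show (Subtype.val : ↥(Set.univ : Set T) → T) ⁻¹' Set.range (𝟙 T : T ⟶ T) = Set.univ from
        Set.eq_univ_of_forall fun t => ⟨t.1, rfl⟩]
      exact IsConstructible.univ)
    (fun k l h => absurd (Subsingleton.elim k l) h)
    (Set.eq_univ_of_forall fun t => Set.mem_iUnion.2 ⟨(), t, rfl⟩)
    fun _ => Groth.Agent.LocConst24.flc_pull _ h)

theorem isConstructible_iff_closures [IsLocallyNoetherian X] (F : EtCoh.Ab X) :
    EtPBC.IsConstructible F ↔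
      ∀ x : X, ∃ (V : X.Opens) (T : Scheme.{u}) (g : T ⟶ X), IsImmersion g ∧ x ∈ V ∧
        Set.range g.base = (V : Set X) ∩ closure {x} ∧
        EtCoh.IsFiniteLocallyConstant ((EtCoh.pull g).obj F) := by
  constructor
  · intro hF x
    obtain ⟨U, hU, hxU, -⟩ := exists_affine_le (⊤ : X.Opens) (x := x) trivial
    obtain ⟨n, T, g, hg, -, -, hgu, hgl⟩ := hF U hU
    obtain ⟨i, hi⟩ := Set.mem_iUnion.1 (hgu.ge hxU)
    haveI := hg i
    obtain ⟨O, C, hO, hC, hOC⟩ := (g i).isLocallyClosed_range
    let V : X.Opens := U ⊓ ⟨O, hO⟩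
    have hxi : x ∈ O ∩ C := hOC ▸ hi
    have hsub : (V : Set X) ∩ closure {x} ⊆ Set.range (g i) := by
      rw [hOC]
      rintro y ⟨⟨-, hyO⟩, hyx⟩
      exact ⟨hyO, closure_minimal (Set.singleton_subset_iff.2 hxi.2) hC hyx⟩
    let Z : TopologicalSpace.Closeds V.toScheme :=
      ⟨V.ι ⁻¹' closure {x}, isClosed_closure.preimage V.ι.continuous⟩
    let c : (Scheme.IdealSheafData.vanishingIdeal Z).subscheme ⟶ X :=
      (Scheme.IdealSheafData.vanishingIdeal Z).subschemeι ≫ V.ι
    haveI : IsImmersion c := inferInstanceAs (IsImmersion (_ ≫ _))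
    have hc : Set.range c = (V : Set X) ∩ closure {x} := by
      show Set.range (V.ι ∘ (Scheme.IdealSheafData.vanishingIdeal Z).subschemeι) = _
      rw [Set.range_comp, Scheme.IdealSheafData.range_subschemeι,
        Scheme.IdealSheafData.coe_support_vanishingIdeal]
      show V.ι '' (V.ι ⁻¹' closure {x}) = _
      rw [Set.image_preimage_eq_range_inter, V.range_ι]
    refine ⟨V, pullback (g i) c, pullback.fst (g i) c ≫ g i, inferInstance, ⟨hxU, hxi.1⟩, ?_,
      flc_comp _ _ (hgl i)⟩
    show Set.range (pullback.fst (g i) c ≫ g i) = _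
    rw [Scheme.Pullback.range_fst_comp, hc]
    exact Set.inter_eq_right.2 hsub
  · intro h
    refine isConstructible_of_cover (fun U : X.affineOpens => U.1) (iSup_affineOpens_eq_top X) fun U => ?_
    haveI : IsAffine U.1.toScheme := U.2
    haveI : IsLocallyNoetherian U.1.toScheme := isLocallyNoetherian_of_isOpenImmersion U.1.ι
    haveI : IsNoetherian U.1.toScheme := {}
    choose V T g hg hxV hgr hgl using h
    haveI : ∀ u : U.1.toScheme, IsImmersion (pullback.fst U.1.ι (g (U.1.ι u))) := fun u => by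
      haveI := hg (U.1.ι u)
      infer_instance
    have hr : ∀ u : U.1.toScheme, Set.range (pullback.fst U.1.ι (g (U.1.ι u))) =
        U.1.ι ⁻¹' ((V (U.1.ι u) : Set X) ∩ closure {U.1.ι u}) := fun u => by
      rw [Scheme.Pullback.range_fst]
      exact congrArg (U.1.ι ⁻¹' ·) (hgr (U.1.ι u))
    refine constructible_of_strata _ (fun u : U.1.toScheme => pullback U.1.ι (g (U.1.ι u)))
      (fun u => pullback.fst U.1.ι (g (U.1.ι u))) (fun u => ?_) ?_ (fun u => ?_)
    · exact isConstructible_of_isLocallyClosed (pullback.fst U.1.ι (g (U.1.ι u))).isLocallyClosed_range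
    · refine Set.eq_univ_of_forall fun u => Set.mem_iUnion.2 ⟨u, ?_⟩
      rw [hr]
      exact ⟨hxV _, subset_closure rfl⟩
    · refine isConstructible_of_flc (flc_of_comp _ _ ?_)
      exact flc_congr pullback.condition.symm (flc_comp _ _ (hgl _))

end Groth.Agent.Constr24
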