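import Groth.Agent.Lib.Constr24.FiniteStrata
import Groth.Agent.Lib.LocConst24.PushFinEt
import Groth.Agent.Lib.LocConst24.DescEtale
import Groth.Agent.Lib.EtStalk.FiniteBC
import Groth.Agent.Lib.AlgSpDescent.RedNoeth
import Groth.Agent.Lib.RedSep.Basic

/-!
# Finite étale direct images of constructible sheaves
-/

universe u

set_option maxHeartbeats 800000

open CategoryTheory CategoryTheory.Limits AlgebraicGeometry Opposite Topology

namespace Groth.Agent.Constr24

open Groth.Agent.LocConst24

variable {X Y : Scheme.{u}}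

/-- The reduced scheme with the same points. -/
noncomputable def redι (S : Scheme.{u}) :
    (Scheme.IdealSheafData.vanishingIdeal (⊤ : TopologicalSpace.Closeds S)).subscheme ⟶ S :=
  (Scheme.IdealSheafData.vanishingIdeal (⊤ : TopologicalSpace.Closeds S)).subschemeι

theorem range_redι (S : Scheme.{u}) : Set.range (redι S) = Set.univ := by
  rw [redι, Scheme.IdealSheafData.range_subschemeι, Scheme.IdealSheafData.coe_support_vanishingIdeal]
  rfl

/-- An immersion whose range contains that of an open of a reduced scheme receives it. -/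
theorem flc_open_of_range_subset {C T : Scheme.{u}} [IsReduced C] (p : C ⟶ X) (g : T ⟶ X) [IsImmersion g]
    (D : C.Opens) (hD : ∀ z ∈ D, p z ∈ Set.range g) {F : EtCoh.Ab X}
    (h : EtCoh.IsFiniteLocallyConstant ((EtCoh.pull g).obj F)) :
    EtCoh.IsFiniteLocallyConstant ((EtCoh.pull D.ι).obj ((EtCoh.pull p).obj F)) := by
  haveI : IsReduced D.toScheme := inferInstance
  let a := pullback.fst (D.ι ≫ p) g
  have ha : Set.range a = Set.univ := by
    rw [Scheme.Pullback.range_fst]
    exact Set.eq_univ_of_forall fun z => hD _ z.2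
  haveI : Surjective a := ⟨fun z => ha.ge (Set.mem_univ z)⟩
  haveI : IsClosedImmersion a := IsClosedImmersion.of_isPreimmersion a (by rw [ha]; exact isClosed_univ)
  haveI : IsIso a := isIso_of_isClosedImmersion_of_surjective a
  refine flc_of_comp D.ι p (flc_congr ?_ (flc_comp (inv a ≫ pullback.snd (D.ι ≫ p) g) g h))
  rw [Category.assoc, ← pullback.condition, IsIso.inv_hom_id_assoc]

theorem adapted_push [CompactSpace Y] [QuasiSeparatedSpace Y] (f : X ⟶ Y) [IsFinite f]
    [AlgebraicGeometry.Etale f] {F : EtCoh.Ab X} (hF : EtPBC.IsConstructible F) :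
    EtPBC.AdaptedStrata ((EtCoh.push f).obj F) (Set.univ : Set Y) := by
  classical
  haveI : CompactSpace X := QuasiCompact.compactSpace_of_compactSpace f
  haveI : QuasiSeparatedSpace X := quasiSeparatedSpace_of_quasiSeparated f
  obtain ⟨n, T, g, hg, hgc, -, hgu, hgl⟩ := adapted_univ hF
  choose ι hι O hO P hP using fun i => exists_atoms (isConstructible_of_subtype_univ (hgc i))
  let A := Σ i : Fin n, ι i
  haveI : Fintype A := Fintype.ofFinite A
  let eA := Fintype.equivFin A
  let W : Fin (Fintype.card A) → X.Opens := fun a => ⟨O _ (eA.symm a).2, (hO _ (eA.symm a).2).1⟩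
  haveI : ∀ a, CompactSpace (W a).toScheme := fun a =>
    isCompact_iff_compactSpace.1 (hO _ (eA.symm a).2).2
  haveI : ∀ a, AlgebraicGeometry.Etale ((W a).ι ≫ f) := fun a => inferInstance
  haveI : ∀ a, IsSeparated ((W a).ι ≫ f) := fun a => inferInstance
  haveI : ∀ a, QuasiCompact ((W a).ι ≫ f) := fun a => quasiCompact_of_compactSpace _
  obtain ⟨κ, _, S, c, hci, hcc, hcd, hcu, hcf⟩ :=
    exists_strata_finite_family (Fintype.card A) (fun a => (W a).toScheme) (fun a => (W a).ι ≫ f)
  refine adapted_of_finite (fun k => (Scheme.IdealSheafData.vanishingIdeal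
      (⊤ : TopologicalSpace.Closeds (S k))).subscheme)
    (fun k => redι (S k) ≫ c k) (fun k => ?_) (fun k => ?_) (fun k l hkl => ?_) ?_ (fun k => ?_)
  · haveI := hci k
    haveI : IsClosedImmersion (redι (S k)) := inferInstanceAs (IsClosedImmersion (Scheme.IdealSheafData.subschemeι _))
    infer_instance
  · refine IsConstructible.preimage_of_isOpenEmbedding isOpen_univ.isOpenEmbedding_subtypeVal ?_
    show Topology.IsConstructible (Set.range (c k ∘ redι (S k)))
    rw [Set.range_comp, range_redι, Set.image_univ]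
    exact hcc k
  · show Disjoint (Set.range (c k ∘ redι (S k))) (Set.range (c l ∘ redι (S l)))
    rw [Set.range_comp, Set.range_comp, range_redι, range_redι, Set.image_univ, Set.image_univ]
    exact hcd hkl
  · refine Eq.trans (Set.iUnion_congr fun k => ?_) hcu
    show Set.range (c k ∘ redι (S k)) = _
    rw [Set.range_comp, range_redι, Set.image_univ]
  let r := redι (S k) ≫ c k
  let C := pullback f r
  let p₁ : C ⟶ X := pullback.fst f r
  let p₂ : C ⟶ _ := pullback.snd f r
  haveI : AlgebraicGeometry.Etale p₂ := inferInstanceAs (AlgebraicGeometry.Etale (pullback.snd f r))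
  haveI : IsFinite p₂ := inferInstanceAs (IsFinite (pullback.snd f r))
  haveI : IsReduced (Scheme.IdealSheafData.vanishingIdeal
      (⊤ : TopologicalSpace.Closeds (S k))).subscheme :=
    Groth.Agent.RedSepLib.isReduced_vanishingIdeal_subscheme _
  haveI : IsReduced C := Groth.Agent.AlgSpDescent.isReduced_of_smooth p₂
  -- the generating opens become clopen
  have hclosed : ∀ a, IsClosed (p₁ ⁻¹' (W a : Set X)) := fun a => by
    haveI := hcf k a
    haveI : IsFinite (pullback.snd ((W a).ι ≫ f) r) := by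
      let sq := (IsPullback.of_hasPullback (pullback.snd ((W a).ι ≫ f) (c k)) (redι (S k))).paste_horiz
        (IsPullback.of_hasPullback ((W a).ι ≫ f) (c k))
      rw [← sq.isoPullback_inv_snd]
      infer_instance
    let m := pullback.snd (W a).ι p₁
    haveI : IsFinite (m ≫ p₂) := by
      rw [← pullbackRightPullbackFstIso_hom_snd f r (W a).ι]
      infer_instance
    haveI : IsFinite m := IsFinite.of_comp m p₂
    have h := m.isClosedMap.isClosed_range
    have hr : Set.range (pullback.snd (W a).ι p₁) = p₁ ⁻¹' Set.range (W a).ι := Scheme.Pullback.range_snd _ _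
    rw [hr, (W a).range_ι] at h
    exact h
  let D : Fin n → Set C := fun i => p₁ ⁻¹' Set.range (g i)
  have hDo : ∀ i, IsOpen (D i) := fun i => by
    rw [isOpen_iff_forall_mem_open]
    intro z hz
    refine ⟨⋂ j : ι i, {z' | p₁ z' ∈ O i j ↔ p₁ z ∈ O i j}, fun z' hz' => ?_,
      isOpen_iInter_of_finite fun j => ?_, Set.mem_iInter.2 fun j => Iff.rfl⟩
    · have hz0 : {j | p₁ z ∈ O i j} ∈ P i := by
        have : p₁ z ∈ Set.range (g i) := hz
        rwa [hP i] at this
      show p₁ z' ∈ Set.range (g i)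
      rw [hP i]
      show {j | p₁ z' ∈ O i j} ∈ P i
      rwa [show {j | p₁ z' ∈ O i j} = {j | p₁ z ∈ O i j} from Set.ext fun j => Set.mem_iInter.1 hz' j]
    · have hW : (W (eA ⟨i, j⟩) : Set X) = O i j := by
        show O _ (eA.symm (eA ⟨i, j⟩)).2 = O i j
        rw [Equiv.symm_apply_apply]
      by_cases hzj : p₁ z ∈ O i j
      · simp only [iff_true_intro hzj, iff_true]
        exact (hO i j).1.preimage p₁.continuous
      · have : {z' | p₁ z' ∈ O i j ↔ p₁ z ∈ O i j} = (p₁ ⁻¹' O i j)ᶜ := by
          ext z'; simp [hzj]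
        rw [this, ← hW]
        exact (hclosed _).isOpen_compl
  have hloc : Loc ((EtCoh.pull p₁).obj F) := by
    refine loc_descend fun z => ?_
    obtain ⟨i, hi⟩ := Set.mem_iUnion.1 (hgu.ge (Set.mem_univ (p₁ z)))
    haveI := hg i
    let Di : C.Opens := ⟨D i, hDo i⟩
    exact ⟨Di.toScheme, Di.ι, inferInstance, ⟨z, hi⟩, rfl,
      loc_of_flc (flc_open_of_range_subset p₁ (g i) Di (fun _ h => h) (hgl i))⟩
  have sq : IsPullback p₁ p₂ f r := IsPullback.of_hasPullback f r
  haveI := EtStalk.isIso_baseChange0_finite f r p₂ p₁ sq F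
  exact flc_iso (asIso (EtCoh.baseChange0 f r p₂ p₁ sq.w F)).symm (flc_push p₂ (flc_of_loc hloc))

theorem isConstructible_push (f : X ⟶ Y) [IsFinite f] [AlgebraicGeometry.Etale f]
    {F : EtCoh.Ab X} (hF : EtPBC.IsConstructible F) :
    EtPBC.IsConstructible ((EtCoh.push f).obj F) := fun U hU => by
  haveI : IsAffine U.toScheme := hU
  have sq : IsPullback (f ⁻¹ᵁ U).ι (f ∣_ U) f U.ι := (isPullback_morphismRestrict f U).flip
  have := EtStalk.isIso_baseChange0_finite f U.ι (f ∣_ U) (f ⁻¹ᵁ U).ι sq F
  let e := asIso (EtCoh.baseChange0 f U.ι (f ∣_ U) (f ⁻¹ᵁ U).ι sq.w F)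
  have h := adapted_push (f ∣_ U) (isConstructible_pull (f ⁻¹ᵁ U).ι hF)
  have h' : EtPBC.AdaptedStrata ((EtCoh.pull U.ι).obj ((EtCoh.push f).obj F))
      ((⊤ : U.toScheme.Opens) : Set U.toScheme) := by
    obtain ⟨n, T, g, h1, h2, h3, h4, h5⟩ := h
    exact ⟨n, T, g, h1, h2, h3, h4, fun i => flc_iso ((EtCoh.pull (g i)).mapIso e.symm) (h5 i)⟩
  have h'' := adapted_image U.ι h'
  rwa [U.ι_image_top] at h''

end Groth.Agent.Constr24
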