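import Groth.Agent.Lib.Constr24.Acc
import Groth.Agent.Lib.ExtShriek24.Constructible
import Groth.Agent.Lib.LocConst24.Const
import Mathlib.CategoryTheory.Subobject.NoetherianObject
import Mathlib.CategoryTheory.Abelian.Subobject

/-!
# Constructible sheaves are the Noetherian torsion sheaves
-/

universe u

set_option maxHeartbeats 400000

open CategoryTheory CategoryTheory.Limits AlgebraicGeometry Opposite Topology
open scoped ZeroObject
open Groth.Agent.EtStalk Groth.Agent.EtSite Groth.Agent.LocConst24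

namespace Groth.Agent.Constr24

variable {X : Scheme.{u}}

theorem isConstructible_extZeroConst [CompactSpace X] [QuasiSeparatedSpace X] (U : X.Etale)
    [hU : CompactSpace U.left] [hU' : QuasiSeparatedSpace U.left] (M : Type) [AddCommGroup M] [Finite M] :
    EtPBC.IsConstructible (EtPBC.extZeroConst U M) := by
  haveI : AlgebraicGeometry.Etale U.hom := U.prop
  haveI : CompactSpace ↥((Functor.fromPUnit X).obj U.right) := ‹CompactSpace X›
  haveI : QuasiSeparatedSpace ↥((Functor.fromPUnit X).obj U.right) := ‹QuasiSeparatedSpace X›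
  haveI : CompactSpace ↥((𝟭 Scheme).obj U.left) := hU
  haveI : QuasiSeparatedSpace ↥((𝟭 Scheme).obj U.left) := hU'
  exact ExtShriek24.isConstructible_iso' (ExtShriek24.extZeroConstIso U M).symm
    (ExtShriek24.isConstructible_extZero U.hom (isConstructible_of_flc (flc_const _ M)))

theorem isConstructible_of_isZero {F : EtCoh.Ab X} (h : IsZero F) : EtPBC.IsConstructible F :=
  isConstructible_of_flc (flc_of_loc (loc_of_isZero h))

/-- A constant section of order dividing `n` comes from `j_! (ℤ/n)`. -/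
theorem exists_hom_extZeroConst (F : EtCoh.Ab X) (V : X.Etale) (n : ℕ)
    (s : F.obj.obj (op V)) (hs : n • s = 0) :
    ∃ (φ : EtPBC.extZeroConst V (ZMod n) ⟶ F) (e : (EtPBC.extZeroConst V (ZMod n)).obj.obj (op V)),
      φ.hom.app (op V) e = s := by
  let hl : ZMod n →+ F.obj.obj (op V) := ZMod.lift n ⟨zmultiplesHom _ s, by simpa using hs⟩
  let h : AddCommGrpCat.of (ULift.{u + 1} (ZMod n)) ⟶ F.obj.obj (op V) :=
    AddCommGrpCat.ofHom (hl.comp AddEquiv.ulift.toAddMonoidHom)
  let adj := (constantSheafAdj (X.smallEtaleTopology.over V) AddCommGrpCat.{u + 1}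
    (T := Over.mk (𝟙 V)) Over.mkIdTerminal).comp (EtPBC.extZeroAdj V)
  refine ⟨(adj.homEquiv (AddCommGrpCat.of (ULift.{u + 1} (ZMod n))) F).symm h,
    adj.unit.app (AddCommGrpCat.of (ULift.{u + 1} (ZMod n))) (ULift.up 1), ?_⟩
  have e := (adj.homEquiv (AddCommGrpCat.of (ULift.{u + 1} (ZMod n))) F).apply_symm_apply h
  rw [Adjunction.homEquiv_unit] at e
  refine (ConcreteCategory.congr_hom e (ULift.up 1)).trans ?_
  show hl 1 = s
  rw [show (1 : ZMod n) = ((1 : ℤ) : ZMod n) by norm_num, ZMod.lift_coe]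
  simp

theorem isConstructible_imageSubobject [IsNoetherian X] {A F : EtCoh.Ab X} (φ : A ⟶ F)
    (hA : EtPBC.IsConstructible A) : EtPBC.IsConstructible (imageSubobject φ : EtCoh.Ab X) :=
  isConstructible_quotient (factorThruImageSubobject φ) hA

theorem isConstructible_biprod {A B : EtCoh.Ab X} (hA : EtPBC.IsConstructible A)
    (hB : EtPBC.IsConstructible B) : EtPBC.IsConstructible (A ⊞ B) :=
  constructible_extension (S := ShortComplex.mk (biprod.inl : A ⟶ A ⊞ B) biprod.snd biprod.inl_snd)
    (ShortComplex.Splitting.ofHasBinaryBiproduct A B).shortExact hA hB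

theorem isConstructible_of_noetherianObject [IsNoetherian X] (F : EtCoh.Ab X)
    (hF : EtCoh.IsTorsion F) (hN : IsNoetherianObject F) : EtPBC.IsConstructible F := by
  classical
  haveI := hN
  haveI hwf : WellFoundedGT (Subobject F) := inferInstance
  let P : Set (Subobject F) := {S | EtPBC.IsConstructible (S : EtCoh.Ab X)}
  have hP : P.Nonempty := ⟨imageSubobject (0 : (0 : EtCoh.Ab X) ⟶ F),
    isConstructible_imageSubobject _ (isConstructible_of_isZero (isZero_zero _))⟩
  obtain ⟨K, hKP, hmax⟩ := hwf.wf.has_min P hP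
  have key : ∀ (V : X.Etale), IsAffine V.left → ∀ (n : ℕ), 0 < n → ∀ s : F.obj.obj (op V), n • s = 0 →
      ∃ t, K.arrow.hom.app (op V) t = s := by
    intro V hV n hn s hs
    haveI := hV
    haveI : NeZero n := ⟨hn.ne'⟩
    obtain ⟨φ, e, he⟩ := exists_hom_extZeroConst F V n s hs
    let L := imageSubobject (biprod.desc K.arrow φ)
    have hL : L ∈ P :=
      isConstructible_imageSubobject _ (isConstructible_biprod hKP (isConstructible_extZeroConst V (ZMod n)))
    have hKL : K ≤ L := Subobject.le_of_comm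
      (biprod.inl ≫ factorThruImageSubobject (biprod.desc K.arrow φ)) (by
        rw [Category.assoc, imageSubobject_arrow_comp, biprod.inl_desc])
    have hLK : L ≤ K := by
      by_contra h
      exact hmax L hL (lt_of_le_not_ge hKL h)
    let ψ : EtPBC.extZeroConst V (ZMod n) ⟶ (K : EtCoh.Ab X) :=
      biprod.inr ≫ factorThruImageSubobject (biprod.desc K.arrow φ) ≫ Subobject.ofLE _ _ hLK
    have hψ : ψ ≫ K.arrow = φ := by
      simp only [ψ, Category.assoc, Subobject.ofLE_arrow, L, imageSubobject_arrow_comp, biprod.inr_desc]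
    refine ⟨ψ.hom.app (op V) e, ?_⟩
    rw [← ConcreteCategory.comp_apply]
    exact (ConcreteCategory.congr_hom (congrArg (fun t : EtPBC.extZeroConst V (ZMod n) ⟶ F =>
      t.hom.app (op V)) hψ) e).trans he
  haveI : Epi K.arrow := by
    rw [← Sheaf.isLocallySurjective_iff_epi']
    refine ⟨fun {U} s => ?_⟩
    rw [mem_et_iff]
    intro x
    obtain ⟨V, g, ⟨v, hv⟩, hfin⟩ := hF U s x
    obtain ⟨W, hW, hvW, -⟩ := exists_isAffineOpen_mem_and_subset (U := (⊤ : V.left.Opens)) (x := v) trivial
    obtain ⟨n, hn, hns⟩ := isOfFinAddOrder_iff_nsmul_eq_zero.1 hfin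
    refine ⟨sub V W, subHom V W ≫ g, ⟨v, hvW⟩, ?_, hv⟩
    obtain ⟨t, ht⟩ := key (sub V W) hW n hn (F.obj.map (subHom V W ≫ g).op s) (by
      rw [op_comp, Functor.map_comp_apply, ← map_nsmul, hns, map_zero])
    exact ⟨t, ht⟩
  haveI := isIso_of_mono_of_epi K.arrow
  exact ExtShriek24.isConstructible_iso' (asIso K.arrow) hKP

theorem isConstructible_iff_noetherianObject [IsNoetherian X] (F : EtCoh.Ab X)
    (hF : EtCoh.IsTorsion F) : EtPBC.IsConstructible F ↔ IsNoetherianObject F := by
  refine ⟨fun h => ?_, isConstructible_of_noetherianObject F hF⟩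
  rw [isNoetherianObject_iff_monotone_chain_condition]
  intro f
  obtain ⟨N, hN⟩ := constructible_acc h f
  exact ⟨N, fun m hm => (hN m hm).symm⟩

/-- Supports of constructible sheaves are locally constructible. -/
theorem isLocallyConstructible_supp {F : EtCoh.Ab X} (hF : EtPBC.IsConstructible F) :
    Topology.IsLocallyConstructible (EtPBC.supp F) := by
  have e : EtPBC.supp F = (zeroLocus F)ᶜ := by
    ext x
    constructor
    · rintro ⟨Ω, _, _, ξ, hξ, hne⟩ h
      haveI := h Ω ξ hξ
      exact hne (AddCommGrpCat.isZero_of_subsingleton _)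
    · intro h
      simp only [zeroLocus, Set.mem_compl_iff, Set.mem_setOf_eq] at h
      push Not at h
      obtain ⟨Ω, hΩ, hΩ', ξ, hξ, hne⟩ := h
      exact ⟨Ω, hΩ, hΩ', ξ, hξ, fun hz => not_subsingleton_iff_nontrivial.2 hne
        (AddCommGrpCat.subsingleton_of_isZero hz)⟩
  rw [e]
  intro x
  obtain ⟨U, hU, hxU, -⟩ := exists_affine_le (⊤ : X.Opens) (x := x) trivial
  haveI : IsAffine U.toScheme := hU
  refine ⟨(U : Set X), U.2.mem_nhds hxU, U.2, ?_⟩
  have := (isConstructible_zeroLocus (isConstructible_pull U.ι hF)).compl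
  rw [zeroLocus_pull, ← Set.preimage_compl] at this
  exact this

end Groth.Agent.Constr24
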