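import Groth.Agent.Lib.Constr24.IndConstr
import Groth.Agent.Lib.Constr24.Agree
import Groth.Agent.Lib.Constr24.Descent
import Groth.Agent.Lib.Constr24.NoethObj
import Mathlib.CategoryTheory.Filtered.Final

/-!
# Torsion sheaves with prescribed support as colimits of constructible sheaves
-/

universe u

set_option maxHeartbeats 400000

open CategoryTheory CategoryTheory.Limits AlgebraicGeometry Opposite Topology
open Groth.Agent.EtStalk

namespace Groth.Agent.Constr24

open Groth.Agent.LocConst24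

variable {X : Scheme.{u}} [CompactSpace X] [QuasiSeparatedSpace X] {F : EtCoh.Ab X}

/-- A cofinal property of constructible sheaves over a torsion sheaf. -/
theorem exists_colimit_of_cofinal (hF : EtCoh.IsTorsion F) (P : EtCoh.Ab X → Prop)
    (h : ∀ d : IndCat F, ∃ k : IndCat F, P ((indDiag F).obj k) ∧ Nonempty (d ⟶ k)) :
    ∃ (J : Type (u + 1)) (_ : SmallCategory J) (_ : IsFiltered J) (D : J ⥤ EtCoh.Ab X)
      (c : Cocone D) (_ : IsColimit c), Nonempty (c.pt ≅ F) ∧
      ∀ j, EtPBC.IsConstructible (D.obj j) ∧ P (D.obj j) := by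
  haveI := isFiltered_indCat (F := F)
  let Q : ObjectProperty (IndCat F) := fun k => P ((indDiag F).obj k)
  have h' : ∀ d, ∃ c : Q.FullSubcategory, Nonempty (d ⟶ Q.ι.obj c) := fun d => by
    obtain ⟨k, hk, hd⟩ := h d
    exact ⟨⟨k, hk⟩, hd⟩
  haveI : IsFiltered Q.FullSubcategory := IsFiltered.of_exists_of_isFiltered_of_fullyFaithful Q.ι h'
  haveI : Q.ι.Final := Functor.final_of_exists_of_isFiltered_of_fullyFaithful Q.ι h'
  exact ⟨Q.FullSubcategory, inferInstance, inferInstance, Q.ι ⋙ indDiag F,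
    (indCocone F).whisker Q.ι,
    (Functor.Final.isColimitWhiskerEquiv Q.ι _).symm (nonempty_isColimit_indCocone hF).some,
    ⟨Iso.refl _⟩, fun j => ⟨isConstructible_indDiag j.1, j.2⟩⟩

/-- Supports only depend on the image point. -/
theorem isZero_stalk_congr {G : EtCoh.Ab X} {Ω Ω' : Type u} [Field Ω] [IsSepClosed Ω] [Field Ω']
    [IsSepClosed Ω'] (ξ : Spec (CommRingCat.of Ω) ⟶ X) (η : Spec (CommRingCat.of Ω') ⟶ X)
    (h : ξ default = η default) (hs : Subsingleton ((EtCoh.stalk η).obj G)) :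
    IsZero ((EtCoh.stalk ξ).obj G) := by
  have hsur := surjective_stalk_congr (0 : G ⟶ G) ξ η h fun q => ⟨q, @Subsingleton.elim _ hs _ _⟩
  have : Subsingleton ((EtCoh.stalk ξ).obj G) := subsingleton_of_forall_eq 0 fun q => by
    obtain ⟨r, rfl⟩ := hsur q
    rw [Functor.map_zero]
    rfl
  exact AddCommGrpCat.isZero_of_subsingleton _

theorem mem_supp_quotient {A B : EtCoh.Ab X} (φ : A ⟶ B) {x : X}
    (h : x ∈ EtPBC.supp (cokernel (kernel.ι φ))) :
    x ∈ EtPBC.supp B := by
  obtain ⟨Ω, hΩ, hΩ', ξ, hξ, hne⟩ := h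
  refine ⟨Ω, hΩ, hΩ', ξ, hξ, fun hz => hne ?_⟩
  let m : cokernel (kernel.ι φ) ⟶ B := Abelian.coimageImageComparison φ ≫ Abelian.image.ι φ
  haveI : Mono m := mono_comp _ _
  haveI := AddCommGrpCat.subsingleton_of_isZero hz
  haveI : Subsingleton ((EtCoh.stalk ξ).obj (cokernel (kernel.ι φ))) :=
    ((mono_iff_stalk m).1 inferInstance Ω ξ).subsingleton
  exact AddCommGrpCat.isZero_of_subsingleton _

theorem exists_colimit_supp_noetherian [IsNoetherian X] (E : Set X) (hE : StableUnderSpecialization E)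
    (hF : EtCoh.IsTorsion F) (hsupp : EtPBC.supp F ⊆ E) :
    ∃ (J : Type (u + 1)) (_ : SmallCategory J) (_ : IsFiltered J) (D : J ⥤ EtCoh.Ab X)
      (c : Cocone D) (_ : IsColimit c), Nonempty (c.pt ≅ F) ∧
      ∀ j, EtPBC.IsConstructible (D.obj j) ∧
        ∃ Z : Set X, IsClosed Z ∧ Z ⊆ E ∧ EtPBC.supp (D.obj j) ⊆ Z := by
  refine exists_colimit_of_cofinal hF (fun G => ∃ Z : Set X, IsClosed Z ∧ Z ⊆ E ∧ EtPBC.supp G ⊆ Z)
    fun d => ?_
  let G' := cokernel (kernel.ι (indι d))
  have hG' : EtPBC.IsConstructible G' :=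
    isConstructible_quotient (cokernel.π _) (isConstructible_indDiag d)
  obtain ⟨k, e, he⟩ := exists_indObj hG' (cokernel.desc _ (indι d) (kernel.condition _))
  refine ⟨k, ?_, ?_⟩
  · have hs : EtPBC.supp ((indDiag F).obj k) ⊆ EtPBC.supp G' := by
      rintro x ⟨Ω, hΩ, hΩ', ξ, hξ, hne⟩
      exact ⟨Ω, hΩ, hΩ', ξ, hξ, fun hz => hne (hz.of_iso ((EtCoh.stalk ξ).mapIso e.symm))⟩
    refine ⟨closure (EtPBC.supp G'), isClosed_closure, ?_, hs.trans subset_closure⟩
    intro x hx
    have hc : Topology.IsConstructible (EtPBC.supp G') := (isLocallyConstructible_supp hG').isConstructible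
    by_contra hxE
    have hgen : ∀ z, z ⤳ x → z ∈ (EtPBC.supp G')ᶜ := fun z hz hzG =>
      hxE (hE hz (hsupp (mem_supp_quotient (indι d) hzG)))
    obtain ⟨W, hW, hxW, hWG⟩ := exists_open_subset_of_gen hc.compl x hgen
    obtain ⟨z, hzW, hzG⟩ := mem_closure_iff.1 hx W hW hxW
    exact hWG hzW hzG
  · obtain ⟨f, -⟩ := exists_indHom (Over.homMk (cokernel.π (kernel.ι (indι d)) ≫ e.hom) (by
      show (cokernel.π _ ≫ e.hom) ≫ indι k = indι d
      rw [Category.assoc, he, cokernel.π_desc]) :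
        (inducedFunctor (Datum.toOver (F := F))).obj d ⟶ (inducedFunctor (Datum.toOver (F := F))).obj k)
    exact ⟨f⟩

theorem exists_colimit_supp_generic [IrreducibleSpace X] (hF : EtCoh.IsTorsion F)
    (hη : genericPoint X ∉ EtPBC.supp F) :
    ∃ (J : Type (u + 1)) (_ : SmallCategory J) (_ : IsFiltered J) (D : J ⥤ EtCoh.Ab X)
      (c : Cocone D) (_ : IsColimit c), Nonempty (c.pt ≅ F) ∧
      ∀ j, EtPBC.IsConstructible (D.obj j) ∧
        ∃ Z : Set X, IsClosed Z ∧ genericPoint X ∉ Z ∧ EtPBC.supp (D.obj j) ⊆ Z := by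
  classical
  refine exists_colimit_of_cofinal hF
    (fun G => ∃ Z : Set X, IsClosed Z ∧ genericPoint X ∉ Z ∧ EtPBC.supp G ⊆ Z) fun d => ?_
  haveI := isFiltered_indCat (F := F)
  let ξ := geomPt X (genericPoint X)
  have hz : Subsingleton ((EtCoh.stalk ξ).obj F) := by
    refine AddCommGrpCat.subsingleton_of_isZero (Classical.byContradiction fun h => hη ?_)
    exact ⟨_, inferInstance, inferInstance, ξ, by rw [range_eq_singleton, geomPt_default], h⟩
  haveI : (EtCoh.stalk ξ).IsLeftAdjoint :=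
    (Scheme.pointSmallEtale ξ).skyscraperSheafAdjunction.isLeftAdjoint
  let hc := isColimitOfPreserves (EtCoh.stalk ξ) (nonempty_isColimit_indCocone hF).some
  have hkill : ∀ (d : IndCat F) (q : (EtCoh.stalk ξ).obj ((indDiag F).obj d)),
      ∃ (k : IndCat F) (f : d ⟶ k), (EtCoh.stalk ξ).map ((indDiag F).map f) q = 0 := fun d q => by
    obtain ⟨k, f, g, h⟩ := (Concrete.isColimit_rep_eq_iff_exists _ hc q
      (0 : (EtCoh.stalk ξ).obj ((indDiag F).obj d))).1 (@Subsingleton.elim _ hz _ _)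
    exact ⟨k, f, h.trans (map_zero _)⟩
  have hall : ∀ s : Finset ((EtCoh.stalk ξ).obj ((indDiag F).obj d)),
      ∃ (k : IndCat F) (f : d ⟶ k), ∀ q ∈ s, (EtCoh.stalk ξ).map ((indDiag F).map f) q = 0 := by
    intro s
    induction s using Finset.induction with
    | empty => exact ⟨d, 𝟙 _, fun q hq => absurd hq (Finset.notMem_empty q)⟩
    | insert q s _ ih =>
      obtain ⟨k, f, hf⟩ := ih
      obtain ⟨k', f', hf'⟩ := hkill k ((EtCoh.stalk ξ).map ((indDiag F).map f) q)
      refine ⟨k', f ≫ f', fun q' hq' => ?_⟩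
      rw [Functor.map_comp, Functor.map_comp, ConcreteCategory.comp_apply]
      rcases Finset.mem_insert.1 hq' with rfl | hq'
      · exact hf'
      · rw [hf q' hq', map_zero]
  haveI := finite_stalk (isConstructible_indDiag d) ξ
  obtain ⟨k, f, hf⟩ := hall (Set.finite_univ (α := (EtCoh.stalk ξ).obj ((indDiag F).obj d))).toFinset
  let φ : (indDiag F).obj d ⟶ (indDiag F).obj k := (indDiag F).map f
  let G' := cokernel (kernel.ι φ)
  have hG' : EtPBC.IsConstructible G' := constructible_cokernel _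
    (constructible_kernel φ (isConstructible_indDiag d) (isConstructible_indDiag k))
    (isConstructible_indDiag d)
  obtain ⟨k', e, he⟩ := exists_indObj hG' (cokernel.desc _ φ (kernel.condition _) ≫ indι k)
  obtain ⟨f', -⟩ := exists_indHom (Over.homMk (cokernel.π (kernel.ι φ) ≫ e.hom) (by
      show (cokernel.π _ ≫ e.hom) ≫ indι k' = indι d
      rw [Category.assoc, he, cokernel.π_desc_assoc]
      exact indι_w f) :
        (inducedFunctor (Datum.toOver (F := F))).obj d ⟶ (inducedFunctor (Datum.toOver (F := F))).obj k')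
  refine ⟨k', ?_, ⟨f'⟩⟩
  have hη0 : Subsingleton ((EtCoh.stalk ξ).obj G') := subsingleton_of_forall_eq 0 fun r => by
    obtain ⟨q, rfl⟩ := (epi_iff_stalk (cokernel.π (kernel.ι φ))).1 inferInstance _ ξ r
    obtain ⟨p, hp⟩ := (function_exact_stalk (S := ShortComplex.mk (kernel.ι φ) φ (kernel.condition φ))
      (ShortComplex.exact_of_f_is_kernel _ (kernelIsKernel φ)) _ ξ q).1 (hf q ((Set.Finite.mem_toFinset _).2 (Set.mem_univ q)))
    rw [← hp, ← ConcreteCategory.comp_apply, ← Functor.map_comp, cokernel.condition, Functor.map_zero]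
    rfl
  have hGc : Topology.IsConstructible (EtPBC.supp G') := (isLocallyConstructible_supp hG').isConstructible
  obtain ⟨W, hW, hηW, hWG⟩ := exists_open_subset_of_gen hGc.compl (genericPoint X) fun z hz => by
    rw [show z = genericPoint X from (hz.antisymm (genericPoint_specializes z)).eq]
    rintro ⟨Ω, hΩ, hΩ', ζ, hζ, hne⟩
    exact hne (isZero_stalk_congr ζ ξ (by rw [apply_default_of_range ζ hζ, geomPt_default]) hη0)
  refine ⟨Wᶜ, hW.isClosed_compl, fun h => h hηW, ?_⟩
  rintro x ⟨Ω, hΩ, hΩ', ζ, hζ, hne⟩ hxW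
  exact hWG hxW ⟨Ω, hΩ, hΩ', ζ, hζ, fun hz => hne (hz.of_iso ((EtCoh.stalk ζ).mapIso e.symm))⟩

end Groth.Agent.Constr24
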