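import Groth.Agent.Lib.Constr24.Compact
import Mathlib.CategoryTheory.Limits.ConcreteCategory.Filtered

/-!
# Torsion sheaves are filtered colimits of constructible sheaves
-/

universe u

set_option maxHeartbeats 400000

open CategoryTheory CategoryTheory.Limits AlgebraicGeometry Opposite Topology
open Groth.Agent.EtStalk Groth.Agent.EtSite Groth.Agent.LocConst24

namespace Groth.Agent.Constr24

variable {X : Scheme.{u}}

/-- Presentation data of a constructible sheaf over a given sheaf. -/
structure Datum (F : EtCoh.Ab X) : Type (u + 1) where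
  a : ℕ
  b : ℕ
  U : Fin a → X.Etale
  V : Fin b → X.Etale
  n : Fin a → ℕ
  m : Fin b → ℕ
  hU : ∀ i, 0 < n i ∧ IsAffine (U i).left
  hV : ∀ j, 0 < m j ∧ IsAffine (V j).left
  φ : (⨁ fun j => EtPBC.extZeroConst (V j) (ZMod (m j))) ⟶ ⨁ fun i => EtPBC.extZeroConst (U i) (ZMod (n i))
  g : cokernel φ ⟶ F

/-- The object over `F` of a datum. -/
noncomputable def Datum.toOver {F : EtCoh.Ab X} (d : Datum F) : Over F := Over.mk d.g

variable (F : EtCoh.Ab X)

/-- Constructible sheaves over `F`. -/
abbrev IndCat : Type (u + 1) := InducedCategory (Over F) (Datum.toOver (F := F))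

/-- The diagram. -/
noncomputable abbrev indDiag : IndCat F ⥤ EtCoh.Ab X :=
  inducedFunctor (Datum.toOver (F := F)) ⋙ Over.forget F

/-- Its cocone to `F`. -/
noncomputable def indCocone : Cocone (indDiag F) where
  pt := F
  ι :=
    { app := fun d => ((inducedFunctor (Datum.toOver (F := F))).obj d).hom
      naturality := fun d e f => (Over.w ((inducedFunctor (Datum.toOver (F := F))).map f)).trans
        (Category.comp_id _).symm }

variable {F}

/-- The structure map to `F`. -/
noncomputable def indι (d : IndCat F) : (indDiag F).obj d ⟶ F := (indCocone F).ι.app d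

theorem indι_w {d e : IndCat F} (f : d ⟶ e) : (indDiag F).map f ≫ indι e = indι d :=
  (indCocone F).w f

theorem exists_indHom {d e : IndCat F}
    (f : (inducedFunctor (Datum.toOver (F := F))).obj d ⟶ (inducedFunctor (Datum.toOver (F := F))).obj e) :
    ∃ f' : d ⟶ e, (inducedFunctor (Datum.toOver (F := F))).map f' = f :=
  ⟨InducedCategory.homMk f, rfl⟩

variable [CompactSpace X] [QuasiSeparatedSpace X]

theorem isConstructible_indDiag (d : IndCat F) : EtPBC.IsConstructible ((indDiag F).obj d) :=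
  (constructible_iff_presentation _).2 ⟨d.a, d.b, d.U, d.V, d.n, d.m, d.hU, d.hV, d.φ, ⟨Iso.refl _⟩⟩

theorem exists_indObj {P : EtCoh.Ab X} (hP : EtPBC.IsConstructible P) (p : P ⟶ F) :
    ∃ (d : IndCat F) (e : P ≅ (indDiag F).obj d), e.hom ≫ (indι d) = p := by
  obtain ⟨a, b, U, V, n, m, hU, hV, φ, ⟨e⟩⟩ := (constructible_iff_presentation P).1 hP
  refine ⟨⟨a, b, U, V, n, m, hU, hV, φ, e.inv ≫ p⟩, e, ?_⟩
  exact e.hom_inv_id_assoc p

theorem isFiltered_indCat : IsFiltered (IndCat F) := by
  haveI : Nonempty (IndCat F) :=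
    ⟨(exists_indObj (isConstructible_of_isZero (isZero_zero (EtCoh.Ab X))) 0).choose⟩
  suffices IsFilteredOrEmpty (IndCat F) from { this with }
  refine ⟨?_, ?_⟩
  · intro d e
    obtain ⟨k, i, hi⟩ := exists_indObj (isConstructible_biprod' (isConstructible_indDiag d)
      (isConstructible_indDiag e)) (biprod.desc (indι d) (indι e))
    obtain ⟨f, -⟩ := exists_indHom (Over.homMk (biprod.inl ≫ i.hom) (by
      show (biprod.inl ≫ i.hom) ≫ (indι k) = (indι d)
      rw [Category.assoc, hi]; exact biprod.inl_desc _ _) :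
        (inducedFunctor (Datum.toOver (F := F))).obj d ⟶ (inducedFunctor (Datum.toOver (F := F))).obj k)
    obtain ⟨g, -⟩ := exists_indHom (Over.homMk (biprod.inr ≫ i.hom) (by
      show (biprod.inr ≫ i.hom) ≫ (indι k) = (indι e)
      rw [Category.assoc, hi]; exact biprod.inr_desc _ _) :
        (inducedFunctor (Datum.toOver (F := F))).obj e ⟶ (inducedFunctor (Datum.toOver (F := F))).obj k)
    exact ⟨k, f, g, trivial⟩
  · intro d e f g
    let δ : (indDiag F).obj d ⟶ (indDiag F).obj e := (indDiag F).map f - (indDiag F).map g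
    have hδ : δ ≫ (indι e) = 0 := by
      rw [Preadditive.sub_comp, indι_w f, indι_w g, sub_self]
    obtain ⟨k, i, hi⟩ := exists_indObj (constructible_cokernel δ (isConstructible_indDiag d)
      (isConstructible_indDiag e)) (cokernel.desc δ (indι e) hδ)
    obtain ⟨h, hh⟩ := exists_indHom (Over.homMk (cokernel.π δ ≫ i.hom) (by
      show (cokernel.π δ ≫ i.hom) ≫ (indι k) = (indι e)
      rw [Category.assoc, hi, cokernel.π_desc]) :
        (inducedFunctor (Datum.toOver (F := F))).obj e ⟶ (inducedFunctor (Datum.toOver (F := F))).obj k)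
    refine ⟨k, h, (inducedFunctor (Datum.toOver (F := F))).map_injective ?_⟩
    rw [Functor.map_comp, Functor.map_comp, hh]
    refine Over.OverMorphism.ext ?_
    show (indDiag F).map f ≫ cokernel.π δ ≫ i.hom = (indDiag F).map g ≫ cokernel.π δ ≫ i.hom
    rw [← sub_eq_zero, ← Preadditive.sub_comp]
    show δ ≫ cokernel.π δ ≫ i.hom = 0
    rw [cokernel.condition_assoc, zero_comp]
where
  isConstructible_biprod' {A B : EtCoh.Ab X} (hA : EtPBC.IsConstructible A)
      (hB : EtPBC.IsConstructible B) : EtPBC.IsConstructible (A ⊞ B) :=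
    constructible_extension (S := ShortComplex.mk (biprod.inl : A ⟶ A ⊞ B) biprod.snd biprod.inl_snd)
      (ShortComplex.Splitting.ofHasBinaryBiproduct A B).shortExact hA hB

omit [CompactSpace X] [QuasiSeparatedSpace X] in
theorem hom_extZeroConst_ext (V : X.Etale) (n : ℕ) (G : EtCoh.Ab X) (t : G.obj.obj (op V))
    (ht : n • t = 0) :
    ∃ (κ : EtPBC.extZeroConst V (ZMod n) ⟶ G) (e : (EtPBC.extZeroConst V (ZMod n)).obj.obj (op V)),
      κ.hom.app (op V) e = t ∧ ∀ (H : EtCoh.Ab X) (h : G ⟶ H), h.hom.app (op V) t = 0 → κ ≫ h = 0 := by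
  let adj := (constantSheafAdj (X.smallEtaleTopology.over V) AddCommGrpCat.{u + 1}
    (T := Over.mk (𝟙 V)) Over.mkIdTerminal).comp (EtPBC.extZeroAdj V)
  let A := AddCommGrpCat.of (ULift.{u + 1} (ZMod n))
  let gen : A := ULift.up 1
  let hl : ZMod n →+ G.obj.obj (op V) := ZMod.lift n ⟨zmultiplesHom _ t, by simpa using ht⟩
  let h₀ : A ⟶ G.obj.obj (op V) := AddCommGrpCat.ofHom (hl.comp AddEquiv.ulift.toAddMonoidHom)
  have e := (adj.homEquiv A G).apply_symm_apply h₀
  rw [Adjunction.homEquiv_unit] at e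
  have h1 : hl 1 = t := by
    rw [show (1 : ZMod n) = ((1 : ℤ) : ZMod n) by norm_num, ZMod.lift_coe]; simp
  refine ⟨(adj.homEquiv A G).symm h₀, adj.unit.app A gen,
    (ConcreteCategory.congr_hom e gen).trans h1, fun H h hh => ?_⟩
  apply (adj.homEquiv A H).injective
  rw [Adjunction.homEquiv_naturality_right, Equiv.apply_symm_apply, Adjunction.homEquiv_unit]
  refine AddCommGrpCat.ext fun x => ?_
  show h.hom.app (op V) (hl x.down) = (0 : EtPBC.extZeroConst V (ZMod n) ⟶ H).hom.app (op V) (adj.unit.app A x)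
  refine Eq.trans ?_ (show (0 : H.obj.obj (op V)) = _ from rfl)
  obtain ⟨i, hi⟩ : ∃ i : ℤ, x.down = i • (1 : ZMod n) :=
    ⟨ZMod.cast x.down, by rw [zsmul_eq_mul, mul_one, ZMod.intCast_zmod_cast]⟩
  rw [hi, map_zsmul, map_zsmul, h1, hh, zsmul_zero]

omit [CompactSpace X] [QuasiSeparatedSpace X] in
theorem exists_affine_nhd {Ω : Type u} [Field Ω] [IsSepClosed Ω] {ξ : Spec (CommRingCat.of Ω) ⟶ X}
    {W : X.Etale} (z : fib ξ W) :
    ∃ (A : W.left.Opens) (z' : fib ξ (sub W A)), IsAffine (sub W A).left ∧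
      (Scheme.pointSmallEtale ξ).fiber.map (subHom W A) z' = z := by
  obtain ⟨A, hA, hzA, -⟩ :=
    exists_isAffineOpen_mem_and_subset (U := (⊤ : W.left.Opens)) (x := fibPt z) trivial
  let zl : Spec (CommRingCat.of Ω) ⟶ W.left := z.left
  obtain ⟨c, hc⟩ := comp_eq_of_mem_range A.ι zl (by rw [A.range_ι]; exact hzA)
  exact ⟨A, Over.homMk c (by
    show c ≫ A.ι ≫ W.hom = ξ
    exact (Category.assoc _ _ _).symm.trans ((congrArg (· ≫ W.hom) hc).trans (Over.w z))), hA,
    Over.OverMorphism.ext hc⟩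

theorem nonempty_isColimit_indCocone (hF : EtCoh.IsTorsion F) : Nonempty (IsColimit (indCocone F)) := by
  haveI := isFiltered_indCat (F := F)
  let d₀ := colimit.desc (indDiag F) (indCocone F)
  suffices IsIso d₀ by
    haveI : IsIso ((colimit.isColimit (indDiag F)).desc (indCocone F)) := this
    exact ⟨IsColimit.ofPointIso (t := indCocone F) (colimit.isColimit _)⟩
  rw [EtStalk.isIso_iff_stalk]
  intro Ω _ _ ξ
  haveI : (EtCoh.stalk ξ).IsLeftAdjoint := (Scheme.pointSmallEtale ξ).skyscraperSheafAdjunction.isLeftAdjoint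
  have hιd : ∀ (d : IndCat F) (x), (EtCoh.stalk ξ).map d₀ ((EtCoh.stalk ξ).map (colimit.ι (indDiag F) d) x) =
      (EtCoh.stalk ξ).map (indι d) x := fun d x => by
    rw [← ConcreteCategory.comp_apply, ← Functor.map_comp, colimit.ι_desc]
    rfl
  have hrep := Concrete.isColimit_exists_rep (indDiag F ⋙ EtCoh.stalk ξ)
    (isColimitOfPreserves (EtCoh.stalk ξ) (colimit.isColimit (indDiag F)))
  constructor
  · refine (injective_iff_map_eq_zero ((EtCoh.stalk ξ).map d₀).hom).2 fun q hq => ?_
    obtain ⟨d, p, rfl⟩ := hrep q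
    have hq' : (EtCoh.stalk ξ).map (indι d) p = 0 := (hιd d p).symm.trans hq
    obtain ⟨W, y, s, rfl⟩ := germ_surjective ξ _ p
    haveI := finite_stalk (isConstructible_indDiag d) ξ
    obtain ⟨k, hk, hks⟩ := isOfFinAddOrder_iff_nsmul_eq_zero.1
      (isOfFinAddOrder_of_finite (germ ξ ((indDiag F).obj d) y s))
    obtain ⟨W₁, g₁, y₁, hy₁, he₁⟩ := (germ_eq_iff ξ _ y (k • s) 0).1 (by rw [map_nsmul, hks, map_zero])
    rw [← hy₁, ← germ_map, germ_nat] at hq'
    obtain ⟨W₂, g₂, y₂, hy₂, he₂⟩ := (germ_eq_iff ξ F y₁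
      ((indι d).hom.app (op W₁) (((indDiag F).obj d).obj.map g₁.op s)) 0).1
      (hq'.trans (map_zero _).symm)
    obtain ⟨A, y₃, hA, hy₃⟩ := exists_affine_nhd y₂
    let r := subHom W₂ A ≫ g₂
    let t := ((indDiag F).obj d).obj.map r.op (((indDiag F).obj d).obj.map g₁.op s)
    have ht : k • t = 0 := by
      rw [← map_nsmul, ← map_nsmul, he₁, map_zero, map_zero]
    obtain ⟨κ, e, he, hκ⟩ := hom_extZeroConst_ext (sub W₂ A) k _ t ht
    have hκF : κ ≫ (indι d) = 0 := hκ _ _ (by
      show (indι d).hom.app _ t = 0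
      rw [NatTrans.naturality_apply, op_comp, Functor.map_comp_apply, he₂, map_zero, map_zero])
    haveI : IsAffine (sub W₂ A).left := hA
    haveI : NeZero k := ⟨hk.ne'⟩
    obtain ⟨d', i, hi⟩ := exists_indObj (constructible_cokernel κ
      (isConstructible_extZeroConst (sub W₂ A) (ZMod k)) (isConstructible_indDiag d))
      (cokernel.desc κ (indι d) hκF)
    obtain ⟨f, hf⟩ := exists_indHom (Over.homMk (cokernel.π κ ≫ i.hom) (by
      show (cokernel.π κ ≫ i.hom) ≫ (indι d') = (indι d)
      rw [Category.assoc, hi, cokernel.π_desc]) :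
        (inducedFunctor (Datum.toOver (F := F))).obj d ⟶ (inducedFunctor (Datum.toOver (F := F))).obj d')
    have hf' : (indDiag F).map f = cokernel.π κ ≫ i.hom := congrArg CommaMorphism.left hf
    have hgerm : germ ξ ((indDiag F).obj d) y s =
        (EtCoh.stalk ξ).map κ (germ ξ _ y₃ e) := by
      rw [germ_nat, he, germ_map, Functor.map_comp, ConcreteCategory.comp_apply, hy₃, hy₂, germ_map, hy₁]
    have hkill : (EtCoh.stalk ξ).map ((indDiag F).map f) (germ ξ ((indDiag F).obj d) y s) = 0 := by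
      rw [hgerm, hf', ← ConcreteCategory.comp_apply, ← Functor.map_comp, cokernel.condition_assoc,
        zero_comp, Functor.map_zero]
      rfl
    show (EtCoh.stalk ξ).map (colimit.ι (indDiag F) d) _ = 0
    rw [← colimit.w (indDiag F) f, Functor.map_comp, ConcreteCategory.comp_apply, hkill, map_zero]
  · intro q
    obtain ⟨W, y, s, rfl⟩ := germ_surjective ξ F q
    obtain ⟨V, g, ⟨v, hv⟩, hfin⟩ := hF W s (fibPt y)
    obtain ⟨k, hk, hks⟩ := isOfFinAddOrder_iff_nsmul_eq_zero.1 hfin
    have := etale_left g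
    let yl : Spec (CommRingCat.of Ω) ⟶ W.left := y.left
    obtain ⟨c, -⟩ := Scheme.pointSmallEtaleFiberObjToPreimage_surjective yl
      (s₀ := yl default) rfl (Scheme.Etale.mk g.left) ⟨v, hv⟩
    have hy : c.left ≫ g.left = yl := Over.w c
    let yV : fib ξ V := Over.homMk c.left (by
      change c.left ≫ V.hom = ξ
      exact (congrArg (c.left ≫ ·) (MorphismProperty.Over.w g).symm).trans ((Category.assoc _ _ _).symm.trans
        ((congrArg (· ≫ W.hom) hy).trans (Over.w y))))
    have hyV : (Scheme.pointSmallEtale ξ).fiber.map g yV = y := Over.OverMorphism.ext hy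
    obtain ⟨A, y₃, hA, hy₃⟩ := exists_affine_nhd yV
    obtain ⟨κ, e, he, -⟩ := hom_extZeroConst_ext (sub V A) k F
      (F.obj.map (subHom V A).op (F.obj.map g.op s)) (by rw [← map_nsmul, hks, map_zero])
    haveI : IsAffine (sub V A).left := hA
    haveI : NeZero k := ⟨hk.ne'⟩
    obtain ⟨d, i, hi⟩ := exists_indObj (isConstructible_extZeroConst (sub V A) (ZMod k)) κ
    refine ⟨(EtCoh.stalk ξ).map (colimit.ι (indDiag F) d) ((EtCoh.stalk ξ).map i.hom (germ ξ _ y₃ e)), ?_⟩
    rw [hιd, ← ConcreteCategory.comp_apply, ← Functor.map_comp, hi, germ_nat, he, germ_map, hy₃,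
      germ_map, hyV]

theorem exists_colimit_constructible (hF : EtCoh.IsTorsion F) :
    ∃ (J : Type (u + 1)) (_ : SmallCategory J) (_ : IsFiltered J) (D : J ⥤ EtCoh.Ab X)
      (c : Cocone D) (_ : IsColimit c), (∀ j, EtPBC.IsConstructible (D.obj j)) ∧ Nonempty (c.pt ≅ F) :=
  ⟨IndCat F, inferInstance, isFiltered_indCat, indDiag F, indCocone F,
    (nonempty_isColimit_indCocone hF).some, isConstructible_indDiag, ⟨Iso.refl _⟩⟩

theorem isConstructible_of_compact (hF : EtCoh.IsTorsion F)
    (hc : ∀ (J : Type (u + 1)) [SmallCategory J] [IsFiltered J],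
      PreservesColimitsOfShape J (coyoneda.obj (op F))) :
    EtPBC.IsConstructible F := by
  haveI := isFiltered_indCat (F := F)
  haveI := hc (IndCat F)
  obtain ⟨h⟩ := nonempty_isColimit_indCocone hF
  obtain ⟨d, s, hs⟩ := Types.jointly_surjective_of_isColimit
    (isColimitOfPreserves (coyoneda.obj (op F)) h) (𝟙 F)
  let r : (indDiag F).obj d ⟶ F := (indι d)
  have hsr : (s : F ⟶ (indDiag F).obj d) ≫ r = 𝟙 F := hs
  let s' : F ⟶ (indDiag F).obj d := s
  let p : (indDiag F).obj d ⟶ (indDiag F).obj d := 𝟙 _ - r ≫ s'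
  have hp : p ≫ r = 0 := by
    rw [Preadditive.sub_comp, Category.id_comp, Category.assoc, hsr, Category.comp_id, sub_self]
  let e : cokernel p ≅ F :=
    { hom := cokernel.desc p r hp
      inv := s' ≫ cokernel.π p
      hom_inv_id := by
        apply (cancel_epi (cokernel.π p)).1
        have h1 : cokernel.π p = (r ≫ s') ≫ cokernel.π p := by
          have h0 := cokernel.condition p
          rw [Preadditive.sub_comp, Category.id_comp, sub_eq_zero] at h0
          exact h0
        rw [cokernel.π_desc_assoc, Category.comp_id, ← Category.assoc]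
        exact h1.symm
      inv_hom_id := by rw [Category.assoc, cokernel.π_desc]; exact hsr }
  exact ExtShriek24.isConstructible_iso' e
    (constructible_cokernel p (isConstructible_indDiag d) (isConstructible_indDiag d))

end Groth.Agent.Constr24
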