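import Groth.Agent.Lib.LocConst24.SpecCriterion
import Groth.Agent.Lib.Constr24.Sub
import Groth.Agent.Lib.Constr24.Agree
import Mathlib.CategoryTheory.Subobject.Lattice

/-!
# Constructible sheaves on Noetherian schemes satisfy the ascending chain condition
-/

universe u

set_option maxHeartbeats 400000

open CategoryTheory CategoryTheory.Limits AlgebraicGeometry Opposite Topology
open Groth.Agent.EtStalk Groth.Agent.LocConst24

namespace Groth.Agent.Constr24

variable {X : Scheme.{u}}

theorem eq_zero_of_stalk_alg {F G : EtCoh.Ab X} (a : F ⟶ G)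
    (h : ∀ (Ω : Type u) [Field Ω] [IsAlgClosed Ω] (ξ : Spec (CommRingCat.of Ω) ⟶ X)
      (q : (EtCoh.stalk ξ).obj F), (EtCoh.stalk ξ).map a q = 0) : a = 0 := by
  refine Sheaf.hom_ext (NatTrans.ext (funext fun U => AddCommGrpCat.ext fun s => ?_))
  show a.hom.app U s = 0
  refine eq_of_agree G fun x => ?_
  obtain ⟨Ω, _, _, ξ, φ, hφ⟩ := EtStalk.exists_algFib U.unop x
  refine hφ ▸ (mem_agree_iff_germ G φ _ 0).2 ?_
  have h' := h Ω ξ (germ ξ F φ s)
  rw [germ_nat] at h'
  rw [h', map_zero]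

/-- Near a point, vanishing at one geometric point spreads along the closure. -/
theorem exists_stratum_stab [IsNoetherian X] {F : EtCoh.Ab X} (hF : EtPBC.IsConstructible F)
    (c : ℕ →o Subobject F) (x : X) :
    ∃ (E : Set X) (N : ℕ), Topology.IsConstructible E ∧ x ∈ E ∧ ∀ m, N ≤ m →
      ∀ (Ω : Type u) [Field Ω] [IsAlgClosed Ω] (η : Spec (CommRingCat.of Ω) ⟶ X), η default ∈ E →
        ∀ q, (EtCoh.stalk η).map ((c m).arrow ≫ cokernel.π (c N).arrow) q = 0 := by
  classical
  let ξ := algPt X x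
  haveI := finite_stalk hF ξ
  let S : ℕ →o AddSubgroup ((EtCoh.stalk ξ).obj F) :=
    ⟨fun m => ((EtCoh.stalk ξ).map (c m).arrow).hom.range, fun m n hmn => by
      rintro _ ⟨q, rfl⟩
      refine ⟨(EtCoh.stalk ξ).map (Subobject.ofLE (c m) (c n) (c.monotone hmn)) q, ?_⟩
      show (EtCoh.stalk ξ).map (c n).arrow ((EtCoh.stalk ξ).map (Subobject.ofLE (c m) (c n) (c.monotone hmn)) q) = _
      rw [← ConcreteCategory.comp_apply, ← Functor.map_comp, Subobject.ofLE_arrow]⟩
  haveI : Finite (AddSubgroup ((EtCoh.stalk ξ).obj F)) :=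
    Finite.of_injective (fun S => (S : Set ((EtCoh.stalk ξ).obj F))) SetLike.coe_injective
  obtain ⟨N, hN⟩ := wellFoundedGT_iff_monotone_chain_condition.1 (inferInstance : WellFoundedGT _) S
  let Q := cokernel (c N).arrow
  have hQ : EtPBC.IsConstructible Q := isConstructible_quotient (cokernel.π (c N).arrow) hF
  obtain ⟨V, T, g, hg, hxV, hgr, hgl⟩ := (isConstructible_iff_closures Q).1 hQ x
  haveI := hg
  refine ⟨(V : Set X) ∩ closure {x}, N,
    isConstructible_of_isLocallyClosed (V.2.isLocallyClosed.inter isClosed_closure.isLocallyClosed),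
    ⟨hxV, subset_closure rfl⟩, fun m hm Ω _ _ η hη q => ?_⟩
  obtain ⟨ζ, rfl⟩ := exists_lift_immersion g η (hgr.ge hη)
  obtain ⟨ζx, hζx⟩ := exists_lift_immersion g ξ (hgr.ge (by
    rw [algPt_default]; exact ⟨hxV, subset_closure rfl⟩))
  let a : (c m : EtCoh.Ab X) ⟶ Q := (c m).arrow ≫ cokernel.π (c N).arrow
  -- vanishing at the generic point
  have h0 : ∀ p, (EtCoh.stalk ξ).map a p = 0 := fun p => by
    have hp : (EtCoh.stalk ξ).map (c m).arrow p ∈ S N := by rw [hN m hm]; exact ⟨p, rfl⟩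
    obtain ⟨p', hp'⟩ := hp
    have hp'' : (EtCoh.stalk ξ).map (c N).arrow p' = (EtCoh.stalk ξ).map (c m).arrow p := hp'
    rw [Functor.map_comp, ConcreteCategory.comp_apply, ← hp'', ← ConcreteCategory.comp_apply,
      ← Functor.map_comp, cokernel.condition, Functor.map_zero]
    rfl
  have h0' : ∀ p, (EtCoh.stalk ζx).map ((EtCoh.pull g).map a) p = 0 := by
    intro p
    obtain ⟨p, rfl⟩ := (ConcreteCategory.bijective_of_isIso (stalkPull g ζx (c m : EtCoh.Ab X))).2 p
    rw [← ConcreteCategory.comp_apply, stalkPull_nat, ConcreteCategory.comp_apply]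
    have : ∀ (ξ' : Spec (CommRingCat.of (AlgebraicClosure (X.residueField x))) ⟶ X), ξ' = ξ →
        ∀ p, (EtCoh.stalk ξ').map a p = 0 := fun _ e => e ▸ h0
    rw [this _ hζx, map_zero]
  -- specialisation in the stratum
  have hspec : ζx default ⤳ ζ default := by
    rw [g.isEmbedding.isInducing.specializes_iff.symm, ← Scheme.Hom.comp_apply, hζx,
      ← Scheme.Hom.comp_apply, algPt_default, specializes_iff_mem_closure]
    exact hη.2
  obtain ⟨U, w, hw, M, _, _, σ, hσ⟩ := loc_of_flc hgl (ζ default)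
  obtain ⟨φ, -⟩ := exists_specialization ζ ζx hspec
  obtain ⟨b, -⟩ := Scheme.pointSmallEtaleFiberObjToPreimage_surjective ζ (s₀ := ζ default) rfl U ⟨w, hw⟩
  have hinj : Function.Injective ((GrothendieckTopology.Point.Hom.sheafFiber
      (A := AddCommGrpCat.{u + 1}) φ).app ((EtCoh.pull g).obj Q)) := by
    have h1 := (hσ _ ζx (φ.hom.app U b)).1
    rw [germ_spec_comp φ rfl σ] at h1
    exact (Function.Injective.of_comp_iff' _ (hσ Ω ζ b)).1 h1
  have key : ∀ p, (EtCoh.stalk ζ).map ((EtCoh.pull g).map a) p = 0 := fun p => hinj (by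
    rw [map_zero]
    refine Eq.trans ?_ (h0' ((GrothendieckTopology.Point.Hom.sheafFiber
      (A := AddCommGrpCat.{u + 1}) φ).app ((EtCoh.pull g).obj (c m : EtCoh.Ab X)) p))
    exact NatTrans.naturality_apply
      (GrothendieckTopology.Point.Hom.sheafFiber (A := AddCommGrpCat.{u + 1}) φ) ((EtCoh.pull g).map a) p)
  refine (ConcreteCategory.bijective_of_isIso (stalkPull g ζ Q)).1 ?_
  rw [map_zero, ← ConcreteCategory.comp_apply, ← stalkPull_nat, ConcreteCategory.comp_apply]
  exact key _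

theorem constructible_acc [IsNoetherian X] {F : EtCoh.Ab X} (hF : EtPBC.IsConstructible F)
    (c : ℕ →o Subobject F) : ∃ N, ∀ m, N ≤ m → c m = c N := by
  classical
  choose E N hE hxE h using exists_stratum_stab hF c
  obtain ⟨t, ht⟩ := exists_finite_subcover E hE
    (Set.eq_univ_of_forall fun x => Set.mem_iUnion.2 ⟨x, hxE x⟩)
  refine ⟨t.sup N, fun m hm => le_antisymm ?_ (c.2 hm)⟩
  let K := c (t.sup N)
  have hzero : (c m).arrow ≫ cokernel.π K.arrow = 0 := eq_zero_of_stalk_alg _ fun Ω _ _ η q => by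
    obtain ⟨x, hx, hηx⟩ := Set.mem_iUnion₂.1 (ht.ge (Set.mem_univ (η default)))
    have hle : c (N x) ≤ K := c.2 (Finset.le_sup hx)
    let d : cokernel (c (N x)).arrow ⟶ cokernel K.arrow :=
      cokernel.desc _ (cokernel.π K.arrow) (by
        rw [← Subobject.ofLE_arrow hle, Category.assoc, cokernel.condition, comp_zero])
    have hd : (c m).arrow ≫ cokernel.π K.arrow =
        ((c m).arrow ≫ cokernel.π (c (N x)).arrow) ≫ d := by
      rw [Category.assoc, cokernel.π_desc]
    rw [hd, Functor.map_comp, ConcreteCategory.comp_apply,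
      h x m ((Finset.le_sup hx).trans hm) Ω η hηx q, map_zero]
  exact Subobject.le_of_comm
    ((Abelian.monoIsKernelOfCokernel _ (cokernelIsCokernel K.arrow)).lift (KernelFork.ofι (c m).arrow hzero))
    ((Abelian.monoIsKernelOfCokernel _ (cokernelIsCokernel K.arrow)).fac _ WalkingParallelPair.zero)

end Groth.Agent.Constr24
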