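import Groth.Agent.Lib.Constr24.Strata
import Mathlib.Topology.Spectral.ConstructibleTopology
import Mathlib.AlgebraicGeometry.Properties

/-!
# Constructible sets in qcqs spaces as disjoint unions of atoms; constructible strata
-/

universe u

set_option maxHeartbeats 400000

open CategoryTheory CategoryTheory.Limits AlgebraicGeometry Opposite Topology

namespace Groth.Agent.Constr24

section Top

variable {α : Type*} [TopologicalSpace α]

/-- The atom attached to a set of indices. -/
def atom {ι : Type*} (O : ι → Set α) (S : Set ι) : Set α := {x | ∀ i, x ∈ O i ↔ i ∈ S}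

theorem mem_atom_self {ι : Type*} (O : ι → Set α) (x : α) : x ∈ atom O {i | x ∈ O i} :=
  fun _ => Iff.rfl

theorem pairwise_disjoint_atom {ι : Type*} (O : ι → Set α) {S S' : Set ι} (h : S ≠ S') :
    Disjoint (atom O S) (atom O S') :=
  Set.disjoint_left.2 fun _ hx hx' => h (Set.ext fun i => (hx i).symm.trans (hx' i))

theorem exists_atoms [CompactSpace α] [QuasiSeparatedSpace α] {E : Set α}
    (hE : Topology.IsConstructible E) :
    ∃ (ι : Type) (_ : Finite ι) (O : ι → Set α), (∀ i, IsOpen (O i) ∧ IsCompact (O i)) ∧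
      ∃ P : Set (Set ι), E = {x | {i | x ∈ O i} ∈ P} := by
  induction hE using IsConstructible.empty_union_induction with
  | open_retrocompact U hUo hUc =>
    refine ⟨Unit, inferInstance, fun _ => U, fun _ => ⟨hUo, hUc.isCompact⟩, {S | () ∈ S}, ?_⟩
    rfl
  | union s _ t _ hs ht =>
    obtain ⟨ι, _, O, hO, P, rfl⟩ := hs
    obtain ⟨κ, _, O', hO', P', rfl⟩ := ht
    refine ⟨ι ⊕ κ, inferInstance, Sum.elim O O', fun i => by cases i <;> simp [hO, hO'],
      {S | Sum.inl ⁻¹' S ∈ P ∨ Sum.inr ⁻¹' S ∈ P'}, ?_⟩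
    rfl
  | compl s _ hs =>
    obtain ⟨ι, _, O, hO, P, rfl⟩ := hs
    exact ⟨ι, inferInstance, O, hO, Pᶜ, rfl⟩

theorem isOpen_constructible [CompactSpace α] [QuasiSeparatedSpace α] {E : Set α}
    (hE : Topology.IsConstructible E) :
    IsOpen[constructibleTopology α] E ∧ IsOpen[constructibleTopology α] Eᶜ := by
  induction hE using IsConstructible.empty_union_induction with
  | open_retrocompact U hUo hUc =>
    exact ⟨hUc.isCompact.isOpen_constructibleTopology_of_isOpen hUo,
      IsCompact.isOpen_constructibleTopology_of_isClosed (by simpa using hUc.isCompact)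
        hUo.isClosed_compl⟩
  | union s _ t _ hs ht =>
    letI := constructibleTopology α
    refine ⟨hs.1.union ht.1, ?_⟩
    rw [Set.compl_union]
    exact hs.2.inter ht.2
  | compl s _ hs => exact ⟨hs.2, by rw [compl_compl]; exact hs.1⟩

/-- A covering by constructible sets has a finite subcovering. -/
theorem exists_finite_subcover [CompactSpace α] [QuasiSober α] [PrespectralSpace α]
    [QuasiSeparatedSpace α] {ι : Type*} (E : ι → Set α) (hE : ∀ i, Topology.IsConstructible (E i))
    (hcov : (⋃ i, E i) = Set.univ) : ∃ t : Finset ι, (⋃ i ∈ t, E i) = Set.univ := by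
  obtain ⟨t, ht⟩ := (isCompact_univ (X := WithConstructibleTopology α)).elim_finite_subcover
    (fun i => WithTopology.ofTopology ⁻¹' E i)
    (fun i => WithConstructibleTopology.isOpen_iff.2 (isOpen_constructible (hE i)).1)
    (fun x _ => by
      have : WithTopology.ofTopology x ∈ ⋃ i, E i := by rw [hcov]; trivial
      obtain ⟨i, hi⟩ := Set.mem_iUnion.1 this
      exact Set.mem_iUnion.2 ⟨i, hi⟩)
  refine ⟨t, Set.eq_univ_of_forall fun x => ?_⟩
  obtain ⟨i, hi, hxi⟩ := Set.mem_iUnion₂.1 (ht (Set.mem_univ (WithTopology.toTopology _ x)))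
  exact Set.mem_iUnion₂.2 ⟨i, hi, hxi⟩

theorem isCompact_constructible [CompactSpace α] [QuasiSeparatedSpace α] {E : Set α}
    (hE : Topology.IsConstructible E) : IsCompact E := by
  classical
  obtain ⟨ι, _, O, hO, P, rfl⟩ := exists_atoms hE
  haveI := Fintype.ofFinite ι
  have : {x | {i | x ∈ O i} ∈ P} = ⋃ S : P, atom O S.1 := by
    ext x
    constructor
    · exact fun h => Set.mem_iUnion.2 ⟨⟨_, h⟩, mem_atom_self O x⟩
    · intro h
      obtain ⟨⟨S, hS⟩, hx⟩ := Set.mem_iUnion.1 h
      show {i | x ∈ O i} ∈ P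
      rwa [show {i | x ∈ O i} = S from Set.ext hx]
  rw [this]
  refine isCompact_iUnion fun S => ?_
  have e : atom O S.1 = ⋂₀ ((fun i => O i) '' S.1) \ ⋃ i ∈ S.1ᶜ, O i := by
    ext x
    simp only [atom, Set.sInter_image, Set.mem_sdiff, Set.mem_iInter, Set.mem_iUnion, Set.mem_compl_iff,
      not_exists]
    exact ⟨fun h => ⟨fun i hi => (h i).2 hi, fun i hi hx => hi ((h i).1 hx)⟩,
      fun h i => ⟨fun hx => by_contra fun hi => h.2 i hi hx, h.1 i⟩⟩
  rw [e]
  exact (QuasiSeparatedSpace.isCompact_sInter (Set.toFinite _)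
    (by rintro t ⟨i, -, rfl⟩; exact Or.inl (hO i).1) (by rintro t ⟨i, -, rfl⟩; exact (hO i).2)).diff
    (isOpen_biUnion fun i _ => (hO i).1)

end Top

variable {X : Scheme.{u}}

/-- Constructible sets of a qcqs scheme are finite disjoint unions of constructible immersed pieces. -/
theorem exists_pieces [CompactSpace X] [QuasiSeparatedSpace X] {E : Set X}
    (hE : Topology.IsConstructible E) :
    ∃ (κ : Type) (_ : Finite κ) (T : κ → Scheme.{u}) (c : ∀ k, T k ⟶ X),
      (∀ k, IsImmersion (c k)) ∧ (∀ k, Topology.IsConstructible (Set.range (c k))) ∧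
      Pairwise (fun k l => Disjoint (Set.range (c k)) (Set.range (c l))) ∧
      (⋃ k, Set.range (c k)) = E := by
  classical
  obtain ⟨ι, _, O, hO, P, rfl⟩ := exists_atoms hE
  haveI := Fintype.ofFinite ι
  let A : Set ι → X.Opens := fun S =>
    ⟨⋂ i ∈ S, O i, (Set.toFinite S).isOpen_biInter fun i _ => (hO i).1⟩
  let B : Set ι → X.Opens := fun S =>
    ⟨⋃ i ∈ Sᶜ, O i, isOpen_biUnion fun i _ => (hO i).1⟩
  let C : ∀ S, TopologicalSpace.Closeds (A S).toScheme := fun S =>
    ⟨((A S).ι ⁻¹ᵁ B S : (A S).toScheme.Opens).1ᶜ, ((A S).ι ⁻¹ᵁ B S).2.isClosed_compl⟩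
  let c : ∀ S, ((Scheme.IdealSheafData.vanishingIdeal (C S)).subscheme : Scheme.{u}) ⟶ X :=
    fun S => (Scheme.IdealSheafData.vanishingIdeal (C S)).subschemeι ≫ (A S).ι
  have hc : ∀ S, Set.range (c S) = atom O S := fun S => by
    show Set.range ((A S).ι ∘ (Scheme.IdealSheafData.vanishingIdeal (C S)).subschemeι) = _
    rw [Set.range_comp, Scheme.IdealSheafData.range_subschemeι,
      Scheme.IdealSheafData.coe_support_vanishingIdeal]
    show (A S).ι '' ((A S).ι ⁻¹' (B S : Set X))ᶜ = _
    rw [← Set.preimage_compl, Set.image_preimage_eq_range_inter, (A S).range_ι]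
    ext x
    show x ∈ (⋂ i ∈ S, O i) ∩ (⋃ i ∈ Sᶜ, O i)ᶜ ↔ _
    simp only [atom, Set.mem_inter_iff, Set.mem_iInter, Set.mem_compl_iff, Set.mem_iUnion,
      not_exists]
    exact ⟨fun h i => ⟨fun hx => by_contra fun hi => h.2 i hi hx, h.1 i⟩,
      fun h => ⟨fun i hi => (h i).2 hi, fun i hi hx => hi ((h i).1 hx)⟩⟩
  refine ⟨P, inferInstance, fun S => (Scheme.IdealSheafData.vanishingIdeal (C S.1)).subscheme,
    fun S => c S.1, fun S => inferInstanceAs (IsImmersion (_ ≫ _)), fun S => ?_, fun S T h => ?_, ?_⟩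
  · rw [hc]
    have : atom O S.1 = (⋂ i ∈ S.1, O i) ∩ ⋂ i ∈ S.1ᶜ, (O i)ᶜ := by
      ext x
      simp only [atom, Set.mem_inter_iff, Set.mem_iInter, Set.mem_compl_iff]
      exact ⟨fun h => ⟨fun i hi => (h i).2 hi, fun i hi hx => hi ((h i).1 hx)⟩,
        fun h i => ⟨fun hx => by_contra fun hi => h.2 i hi hx, h.1 i⟩⟩
    rw [this]
    exact (IsConstructible.biInter (Set.toFinite _) fun i _ => (hO i).2.isConstructible (hO i).1).inter
      (IsConstructible.biInter (Set.toFinite _) fun i _ => ((hO i).2.isConstructible (hO i).1).compl)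
  · show Disjoint (Set.range _) (Set.range _)
    rw [hc, hc]
    exact pairwise_disjoint_atom O fun e => h (Subtype.ext e)
  · ext x
    simp only [Set.mem_iUnion, hc]
    refine ⟨fun ⟨⟨S, hS⟩, hx⟩ => ?_, fun h => ⟨⟨_, h⟩, mem_atom_self O x⟩⟩
    show {i | x ∈ O i} ∈ P
    rwa [show {i | x ∈ O i} = S from Set.ext hx]

theorem isConstructible_of_subtype_univ {α : Type*} [TopologicalSpace α] {s : Set α}
    (h : Topology.IsConstructible ((Subtype.val : ↥(Set.univ : Set α) → α) ⁻¹' s)) :
    Topology.IsConstructible s := by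
  refine (isConstructible_preimage_iff_of_isOpenEmbedding isOpen_univ.isOpenEmbedding_subtypeVal
    ?_ ?_).1 h
  · rw [Subtype.range_coe]; exact IsRetrocompact.univ
  · rw [Subtype.range_coe]; exact Set.subset_univ _

/-- Constructible subsets of a constructible immersed subscheme are constructible. -/
theorem isConstructible_image_immersion [CompactSpace X] [QuasiSeparatedSpace X] {T : Scheme.{u}}
    (g : T ⟶ X) [IsImmersion g] (hg : Topology.IsConstructible (Set.range g)) {s : Set T}
    (hs : Topology.IsConstructible s) : Topology.IsConstructible (g '' s) := by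
  haveI : CompactSpace T := ⟨g.isEmbedding.isCompact_iff.2 (by
    rw [Set.image_univ]; exact isCompact_constructible hg)⟩
  induction hs using IsConstructible.empty_union_induction with
  | open_retrocompact U hUo hUc =>
    obtain ⟨O, hO, rfl⟩ := g.isEmbedding.isInducing.isOpen_iff.1 hUo
    have hc : IsCompact (g '' (g ⁻¹' O)) := hUc.isCompact.image g.continuous
    obtain ⟨b, hb, hb'⟩ : ∃ b : Set X, (IsOpen b ∧ IsCompact b) ∧
        g '' (g ⁻¹' O) ⊆ b ∧ b ⊆ O := by
      have h := fun x (hx : x ∈ g '' (g ⁻¹' O)) => (PrespectralSpace.isTopologicalBasis (X := X)).exists_subset_of_mem_open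
        (show x ∈ O by obtain ⟨t, ht, rfl⟩ := hx; exact ht) hO
      choose! V hV hxV hVO using h
      obtain ⟨t, htsub, ht⟩ := hc.elim_nhds_subcover V fun x hx => (hV x hx).1.mem_nhds (hxV x hx)
      exact ⟨⋃ x ∈ t, V x, ⟨isOpen_biUnion fun x hx => (hV x (htsub x hx)).1,
        t.isCompact_biUnion fun x hx => (hV x (htsub x hx)).2⟩, ht,
        Set.iUnion₂_subset fun x hx => hVO x (htsub x hx)⟩
    have e : g '' (g ⁻¹' O) = Set.range g ∩ b := by
      refine Set.Subset.antisymm (Set.subset_inter (Set.image_subset_range _ _) hb'.1) ?_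
      rintro _ ⟨⟨t, rfl⟩, h⟩
      exact ⟨t, hb'.2 h, rfl⟩
    rw [e]
    exact hg.inter (hb.2.isConstructible hb.1)
  | union s _ t _ hs ht => rw [Set.image_union]; exact hs.union ht
  | compl s _ hs =>
    rw [← Set.range_sdiff_image g.isEmbedding.injective]
    exact hg.sdiff hs

theorem constructible_of_strata [CompactSpace X] [QuasiSeparatedSpace X] (F : EtCoh.Ab X)
    {ι : Type u} (T : ι → Scheme.{u}) (g : ∀ i, T i ⟶ X) [∀ i, IsImmersion (g i)]
    (hc : ∀ i, Topology.IsConstructible (Set.range (g i)))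
    (hcov : (⋃ i, Set.range (g i)) = Set.univ)
    (h : ∀ i, EtPBC.IsConstructible ((EtCoh.pull (g i)).obj F)) :
    EtPBC.IsConstructible F := by
  classical
  obtain ⟨t, ht⟩ := exists_finite_subcover (fun i => Set.range (g i)) hc hcov
  let e := t.equivFin.symm
  have hstr : ∀ k : Fin t.card,
      EtPBC.AdaptedStrata ((EtCoh.pull (g (e k).1)).obj F) (Set.univ : Set (T (e k).1)) := fun k => by
    haveI : CompactSpace (T (e k).1) := ⟨(g (e k).1).isEmbedding.isCompact_iff.2 (by
      rw [Set.image_univ]; exact isCompact_constructible (hc _))⟩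
    haveI : QuasiSeparatedSpace (T (e k).1) := quasiSeparatedSpace_of_quasiSeparated (g (e k).1)
    exact adapted_univ (h _)
  choose n S a ha hac had hau hal using hstr
  let E : Fin t.card → Set X := fun k => Set.range (g (e k).1) \ ⋃ j : {j // j < k}, Set.range (g (e j.1).1)
  have hE : ∀ k, Topology.IsConstructible (E k) := fun k =>
    (hc _).sdiff (IsConstructible.iUnion fun j => hc _)
  choose κ hκ P c hci hcc hcd hcu using fun k => exists_pieces (hE k)
  have hr : ∀ k i l, Set.range (pullback.fst (a k i ≫ g (e k).1) (c k l) ≫ a k i ≫ g (e k).1) =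
      g (e k).1 '' Set.range (a k i) ∩ Set.range (c k l) := fun k i l => by
    rw [Scheme.Pullback.range_fst_comp]
    congr 1
    show Set.range (g (e k).1 ∘ a k i) = _
    rw [Set.range_comp]
  refine isConstructible_of_univ (adapted_of_finite (κ := Σ k, Fin (n k) × κ k)
    (fun p => pullback (a p.1 p.2.1 ≫ g (e p.1).1) (c p.1 p.2.2))
    (fun p => pullback.fst (a p.1 p.2.1 ≫ g (e p.1).1) (c p.1 p.2.2) ≫ a p.1 p.2.1 ≫ g (e p.1).1)
    (fun p => ?_) (fun p => ?_) ?_ ?_ (fun p => ?_))
  · haveI := ha p.1 p.2.1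
    haveI := hci p.1 p.2.2
    infer_instance
  · refine IsConstructible.preimage_of_isOpenEmbedding isOpen_univ.isOpenEmbedding_subtypeVal ?_
    rw [hr]
    exact (isConstructible_image_immersion _ (hc _)
      (isConstructible_of_subtype_univ (hac p.1 p.2.1))).inter (hcc p.1 p.2.2)
  · rintro ⟨k, i, l⟩ ⟨k', i', l'⟩ hne
    show Disjoint (Set.range _) (Set.range _)
    rw [hr, hr]
    have hsub : ∀ k l, Set.range (c k l) ⊆ E k := fun k l => by
      rw [← hcu k]; exact Set.subset_iUnion (fun l => Set.range (c k l)) l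
    rcases lt_trichotomy k k' with hk | rfl | hk
    · exact Set.disjoint_left.2 fun x hx hx' =>
        (hsub k' l' hx'.2).2 (Set.mem_iUnion.2 ⟨⟨k, hk⟩, (hsub k l hx.2).1⟩)
    · by_cases hl : l = l'
      · subst hl
        have hi : i ≠ i' := fun h => hne (by rw [h])
        exact ((Set.disjoint_image_iff (g (e k).1).isEmbedding.injective).2 (had k hi)).mono
          Set.inter_subset_left Set.inter_subset_left
      · exact (hcd k hl).mono Set.inter_subset_right Set.inter_subset_right
    · exact Set.disjoint_left.2 fun x hx hx' =>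
        (hsub k l hx.2).2 (Set.mem_iUnion.2 ⟨⟨k', hk⟩, (hsub k' l' hx'.2).1⟩)
  · refine Set.eq_univ_of_forall fun x => ?_
    obtain ⟨i₀, hi₀, hx⟩ := Set.mem_iUnion₂.1 (ht.ge (Set.mem_univ x))
    obtain ⟨k, hk, hmin⟩ := (Finset.univ.filter fun k => x ∈ Set.range (g (e k).1)).exists_minimalFor id
      ⟨t.equivFin ⟨i₀, hi₀⟩, by
        have hi' : (e (t.equivFin ⟨i₀, hi₀⟩)).1 = i₀ := by simp [e]
        refine Finset.mem_filter.2 ⟨Finset.mem_univ _, ?_⟩
        rw [hi']; exact hx⟩
    have hkx : x ∈ Set.range (g (e k).1) := by simpa using hk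
    have hxE : x ∈ E k := ⟨hkx, fun hh => by
      obtain ⟨⟨j, hj⟩, hxj⟩ := Set.mem_iUnion.1 hh
      exact absurd (hmin (j := j) (by simpa using hxj) hj.le) (not_le.2 hj)⟩
    obtain ⟨l, hl⟩ := Set.mem_iUnion.1 ((hcu k).ge hxE)
    obtain ⟨y, rfl⟩ := hkx
    obtain ⟨i, hi⟩ := Set.mem_iUnion.1 ((hau k).ge (Set.mem_univ y))
    refine Set.mem_iUnion.2 ⟨⟨k, i, l⟩, ?_⟩
    rw [hr]
    exact ⟨⟨y, hi, rfl⟩, hl⟩
  · exact flc_comp _ _ (flc_iso ((EtCore.pullComp (a p.1 p.2.1) (g (e p.1).1)).app F).symm (hal _ _))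

end Groth.Agent.Constr24
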