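import Groth.Agent.Lib.Constr24.PushFinite

/-!
# Filtrations of constructible sheaves by extensions by zero
-/

universe u

set_option maxHeartbeats 800000

open CategoryTheory CategoryTheory.Limits AlgebraicGeometry Opposite Topology

namespace Groth.Agent.Constr24

open Groth.Agent.LocConst24 Groth.Agent.EtStalk

theorem shortExact_extZero_pull' {Z X : Scheme.{u}} (i : Z ⟶ X) [IsClosedImmersion i]
    {U : Scheme.{u}} (j : U ⟶ X) [IsOpenImmersion j] (hUr : Set.range j.base = (Set.range i.base)ᶜ)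
    (F : EtCoh.Ab X) :
    ∃ w : (EtShriek.extZeroAdj j).counit.app F ≫ (EtCoh.pullPushAdj i).unit.app F = 0,
      (ShortComplex.mk _ _ w).ShortExact := by
  have hcase : ∀ (Ω : Type u) [Field Ω] [IsSepClosed Ω] (ξ : Spec (CommRingCat.of Ω) ⟶ X),
      (∃ ζ, ζ ≫ i = ξ ∧ ξ (default : Spec (CommRingCat.of Ω)) ∉ Set.range j) ∨
      (∃ ζ, ζ ≫ j = ξ ∧ ξ (default : Spec (CommRingCat.of Ω)) ∉ Set.range i) := by
    intro Ω _ _ ξ
    by_cases h : ξ (default : Spec (CommRingCat.of Ω)) ∈ Set.range i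
    · obtain ⟨ζ, hζ⟩ := Groth.Agent.EtStalk.exists_lift_point i ξ h
      exact Or.inl ⟨ζ, hζ, fun h' => (hUr.subset h') h⟩
    · obtain ⟨ζ, hζ⟩ := Groth.Agent.EtStalk.exists_lift_point_open j ξ (hUr.symm.subset h)
      exact Or.inr ⟨ζ, hζ, h⟩
  have w : (EtShriek.extZeroAdj j).counit.app F ≫ (EtCoh.pullPushAdj i).unit.app F = 0 := by
    refine Sheaf.hom_ext (NatTrans.ext (funext fun V => ConcreteCategory.hom_ext _ _ fun s => ?_))
    obtain ⟨V⟩ := V
    refine Groth.Agent.EtStalk.ext_germ _ _ fun Ω _ _ ξ x => ?_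
    rw [← Groth.Agent.EtStalk.germ_nat, ← Groth.Agent.EtStalk.germ_nat, Functor.map_comp, ConcreteCategory.comp_apply,
      Functor.map_zero]
    rcases hcase Ω ξ with ⟨ζ, -, h⟩ | ⟨ζ, -, h⟩
    · have := AddCommGrpCat.subsingleton_of_isZero
        (Groth.Agent.EtStalk.stalk_extZero_isZero j ((EtShriek.restrAlong j).obj F) ξ h)
      rw [show Groth.Agent.EtStalk.germ ξ ((EtShriek.restrAlong j ⋙ EtShriek.extZero j).obj F) x s = 0 from
        @Subsingleton.elim _ this _ _, map_zero, map_zero]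
      rfl
    · exact @Subsingleton.elim _ (AddCommGrpCat.subsingleton_of_isZero
        (Groth.Agent.EtStalk.stalk_push_isZero i ((EtCoh.pull i).obj F) ξ h)) _ _
  refine ⟨w, ?_⟩
  have hm : Mono ((EtShriek.extZeroAdj j).counit.app F) := by
    rw [Groth.Agent.EtStalk.mono_iff_stalk]
    intro Ω _ _ ξ
    rcases hcase Ω ξ with ⟨ζ, -, h⟩ | ⟨ζ, rfl, h⟩
    · have := AddCommGrpCat.subsingleton_of_isZero
        (Groth.Agent.EtStalk.stalk_extZero_isZero j ((EtShriek.restrAlong j).obj F) ξ h)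
      exact fun a b _ => @Subsingleton.elim _ this a b
    · exact ((ConcreteCategory.isIso_iff_bijective _).1 (Groth.Agent.EtStalk.isIso_stalk_counit j F ζ)).1
  have hunit : ∀ (Ω : Type u) [Field Ω] [IsSepClosed Ω] (ζ : Spec (CommRingCat.of Ω) ⟶ Z),
      IsIso ((EtCoh.stalk (ζ ≫ i)).map ((EtCoh.pullPushAdj i).unit.app F)) := fun Ω _ _ ζ => by
    rw [show (EtCoh.stalk (ζ ≫ i)).map ((EtCoh.pullPushAdj i).unit.app F) =
      Groth.Agent.EtStalk.stalkPull i ζ F ≫ inv (Groth.Agent.EtStalk.pushStalk i ζ ((EtCoh.pull i).obj F)) by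
        rw [IsIso.eq_comp_inv, Groth.Agent.EtStalk.unit_pushStalk]]
    infer_instance
  have he : Epi ((EtCoh.pullPushAdj i).unit.app F) := by
    rw [Groth.Agent.EtStalk.epi_iff_stalk]
    intro Ω _ _ ξ
    rcases hcase Ω ξ with ⟨ζ, rfl, h⟩ | ⟨ζ, -, h⟩
    · exact ((ConcreteCategory.isIso_iff_bijective _).1 (hunit Ω ζ)).2
    · have := AddCommGrpCat.subsingleton_of_isZero
        (Groth.Agent.EtStalk.stalk_push_isZero i ((EtCoh.pull i).obj F) ξ h)
      exact fun b => ⟨0, @Subsingleton.elim _ this _ _⟩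
  refine { exact := ?_, mono_f := hm, epi_g := he }
  rw [Groth.Agent.EtStalk.exact_iff_stalk]
  intro Ω _ _ ξ
  rw [ShortComplex.ab_exact_iff]
  intro b hb
  rcases hcase Ω ξ with ⟨ζ, rfl, h⟩ | ⟨ζ, rfl, h⟩
  · refine ⟨0, (map_zero _).trans (((ConcreteCategory.isIso_iff_bijective _).1 (hunit Ω ζ)).1 ?_)⟩
    exact (map_zero _).trans hb.symm
  · exact ((ConcreteCategory.isIso_iff_bijective _).1 (Groth.Agent.EtStalk.isIso_stalk_counit j F ζ)).2 b


/-- The conditions on one step of a filtration. -/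
def Step {X : Scheme.{u}} {A B : EtCoh.Ab X} (i : A ⟶ B) : Prop :=
  ∃ (U W : Scheme.{u}) (j : U ⟶ X) (_ : IsOpenImmersion j) (c : W ⟶ U)
    (_ : IsClosedImmersion c) (G : EtCoh.Ab W)
    (π : B ⟶ (EtShriek.extZero j).obj ((EtCoh.push c).obj G)) (hz : i ≫ π = 0),
    Topology.IsConstructible (Set.range (c ≫ j)) ∧ EtCoh.IsFiniteLocallyConstant G ∧
    (ShortComplex.mk i π hz).ShortExact

theorem step_of_iso {X : Scheme.{u}} {A A' B B' : EtCoh.Ab X} {i : A ⟶ B} (e : A' ≅ A) (e' : B ≅ B')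
    (h : Step i) : Step (e.hom ≫ i ≫ e'.hom) := by
  obtain ⟨U, W, j, hj, c, hc, G, π, hz, h1, h2, h3⟩ := h
  refine ⟨U, W, j, hj, c, hc, G, e'.inv ≫ π, by simp [hz], h1, h2, ?_⟩
  exact ShortComplex.shortExact_of_iso
    (ShortComplex.isoMk e.symm e' (Iso.refl _) (by simp) (by simp) :
      ShortComplex.mk i π hz ≅ ShortComplex.mk (e.hom ≫ i ≫ e'.hom) (e'.inv ≫ π) (by simp [hz])) h3

/-- A filtration from `A` up to `F`. -/
def FiltTo {X : Scheme.{u}} (F A : EtCoh.Ab X) : Prop :=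
  ∃ (n : ℕ) (E : Fin (n + 1) → EtCoh.Ab X) (ι : ∀ k : Fin n, E k.castSucc ⟶ E k.succ),
    Nonempty (E 0 ≅ A) ∧ Nonempty (E (Fin.last n) ≅ F) ∧ ∀ k : Fin n, Step (ι k)

theorem filtTo_of_iso {X : Scheme.{u}} {F A : EtCoh.Ab X} (e : A ≅ F) : FiltTo F A :=
  ⟨0, fun _ => A, fun k => k.elim0, ⟨Iso.refl _⟩, ⟨e⟩, fun k => k.elim0⟩

theorem filtTo_step {X : Scheme.{u}} {F A A' : EtCoh.Ab X} (i : A' ⟶ A) (hi : Step i)
    (h : FiltTo F A) : FiltTo F A' := by
  obtain ⟨n, E, ι, ⟨e₀⟩, hlast, hstep⟩ := h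
  let E' : Fin (n + 2) → EtCoh.Ab X := Fin.cons A' E
  let ι' : ∀ k : Fin (n + 1), E' k.castSucc ⟶ E' k.succ :=
    Fin.cases (motive := fun k => E' k.castSucc ⟶ E' k.succ) (i ≫ e₀.inv) (fun k => ι k)
  refine ⟨n + 1, E', ι', ⟨Iso.refl A'⟩, hlast, fun k => ?_⟩
  induction k using Fin.cases with
  | zero =>
    have h := step_of_iso (Iso.refl A') e₀.symm hi
    rw [Iso.refl_hom, Category.id_comp] at h
    exact h
  | succ k => exact hstep k

variable {X : Scheme.{u}}

/-- Iterated extension by zero of a restriction. -/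
noncomputable def extZeroCompObj {U V : Scheme.{u}} (k : V ⟶ U) (j : U ⟶ X) (l : V ⟶ X)
    [AlgebraicGeometry.Etale k] [EtShriek.JCont k] [AlgebraicGeometry.Etale j] [EtShriek.JCont j]
    [AlgebraicGeometry.Etale l] [EtShriek.JCont l] (w : k ≫ j = l) (F : EtCoh.Ab X) :
    (EtShriek.extZero j).obj ((EtShriek.extZero k).obj
        ((EtShriek.restrAlong k).obj ((EtShriek.restrAlong j).obj F))) ≅
      (EtShriek.extZero l).obj ((EtShriek.restrAlong l).obj F) :=
  (ExtShriek24.extZeroComp k j l w).app _ ≪≫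
    (EtShriek.extZero l).mapIso ((ExtShriek24.restrComp k j l w).app F)

theorem exists_open_atoms [CompactSpace X] [QuasiSeparatedSpace X] (F : EtCoh.Ab X)
    (hF : EtPBC.IsConstructible F) :
    ∃ (ι : Type) (_ : Fintype ι) (O : ι → X.Opens), (∀ i, IsCompact (O i : Set X)) ∧
      ∀ S : Set ι, (atom (fun i => (O i : Set X)) S).Nonempty → ∃ (T : Scheme.{u}) (g : T ⟶ X),
        IsImmersion g ∧ atom (fun i => (O i : Set X)) S ⊆ Set.range g ∧
          EtCoh.IsFiniteLocallyConstant ((EtCoh.pull g).obj F) := by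
  classical
  obtain ⟨n, T, g, hg, hgc, -, hgu, hgl⟩ := adapted_univ hF
  choose ι hι O hO P hP using fun i => exists_atoms (isConstructible_of_subtype_univ (hgc i))
  haveI : ∀ i, Fintype (ι i) := fun i => @Fintype.ofFinite _ (hι i)
  refine ⟨Σ i : Fin n, ι i, inferInstance, fun a => ⟨O a.1 a.2, (hO a.1 a.2).1⟩,
    fun a => (hO a.1 a.2).2, fun S hS => ?_⟩
  obtain ⟨x, hx⟩ := hS
  obtain ⟨i, hi⟩ := Set.mem_iUnion.1 (hgu.ge (Set.mem_univ x))
  refine ⟨T i, g i, hg i, fun y hy => ?_, hgl i⟩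
  rw [hP i] at hi ⊢
  show {j | y ∈ O i j} ∈ P i
  rw [show {j | y ∈ O i j} = {j | x ∈ O i j} from Set.ext fun j => (hy ⟨i, j⟩).trans (hx ⟨i, j⟩).symm]
  exact hi

theorem filtTo_zero [CompactSpace X] [QuasiSeparatedSpace X] (F : EtCoh.Ab X)
    (hF : EtPBC.IsConstructible F) : ∃ A : EtCoh.Ab X, IsZero A ∧ FiltTo F A := by
  classical
  obtain ⟨ι, _, O, hOc, hO⟩ := exists_open_atoms F hF
  let B : Finset ι → X.Opens := fun S => ⟨⋂ i ∈ S, (O i : Set X),
    isOpen_biInter_finset fun i _ => (O i).2⟩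
  let U : Finset (Finset ι) → X.Opens := fun 𝒮 => ⨆ S ∈ 𝒮, B S
  have memU : ∀ (𝒮 : Finset (Finset ι)) (x : X), x ∈ U 𝒮 ↔ ∃ S ∈ 𝒮, ∀ i ∈ S, x ∈ O i := by
    intro 𝒮 x
    simp only [U, TopologicalSpace.Opens.mem_iSup, exists_prop]
    exact exists_congr fun S => and_congr_right fun _ => Set.mem_iInter₂
  suffices key : ∀ (m : ℕ) (𝒮 : Finset (Finset ι)), (Finset.univ \ 𝒮).card = m →
      (∀ S ∈ 𝒮, ∀ S', S ⊆ S' → S' ∈ 𝒮) → ∀ (V : Scheme.{u}) (l : V ⟶ X) [IsOpenImmersion l],
        Set.range l = (U 𝒮 : Set X) →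
          FiltTo F ((EtShriek.extZero l).obj ((EtShriek.restrAlong l).obj F)) by
    refine ⟨_, ?_, key _ ∅ rfl (fun S h => absurd h (Finset.notMem_empty S)) _ (U ∅).ι (U ∅).range_ι⟩
    rw [IsZero.iff_id_eq_zero]
    refine eq_zero_of_stalk_alg _ fun Ω _ _ ξ => ?_
    haveI := AddCommGrpCat.subsingleton_of_isZero
      (EtStalk.stalk_extZero_isZero (U ∅).ι ((EtShriek.restrAlong (U ∅).ι).obj F) ξ (by
        rw [(U ∅).range_ι]
        intro h
        obtain ⟨S, hS, -⟩ := (memU ∅ _).1 h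
        exact absurd hS (Finset.notMem_empty S)))
    intros; exact Subsingleton.elim _ _
  intro m
  induction m with
  | zero =>
    intro 𝒮 hm _ V l _ hl
    haveI : IsIso ((EtShriek.extZeroAdj l).counit.app F) := by
      refine EtStalk.isIso_extZero_counit l F fun Ω _ _ ξ h => absurd ?_ h
      rw [hl]
      have h0 : (∅ : Finset ι) ∈ 𝒮 := by
        by_contra h0
        have : (∅ : Finset ι) ∈ Finset.univ \ 𝒮 := Finset.mem_sdiff.2 ⟨Finset.mem_univ _, h0⟩
        rw [Finset.card_eq_zero.1 hm] at this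
        exact absurd this (Finset.notMem_empty _)
      exact (memU 𝒮 _).2 ⟨∅, h0, fun i hi => absurd hi (Finset.notMem_empty i)⟩
    exact filtTo_of_iso (asIso ((EtShriek.extZeroAdj l).counit.app F))
  | succ m ih =>
    intro 𝒮 hm hup V l _ hl
    obtain ⟨S, hS, hmax⟩ := (Finset.univ \ 𝒮).exists_maximalFor Finset.card
      (Finset.card_pos.1 (by omega))
    rw [Finset.mem_sdiff] at hS
    have hsup : ∀ S', S ⊆ S' → S' ≠ S → S' ∈ 𝒮 := fun S' h hne => by
      by_contra h'
      have hlt := Finset.card_lt_card (h.ssubset_of_ne (Ne.symm hne))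
      have := hmax (j := S') (Finset.mem_sdiff.2 ⟨Finset.mem_univ _, h'⟩) hlt.le
      omega
    let U' := U (insert S 𝒮)
    have hIH := ih (insert S 𝒮) (by
        rw [Finset.sdiff_insert, Finset.card_erase_of_mem (Finset.mem_sdiff.2 hS)]
        omega)
      (fun T hT T' hTT' => by
        rcases Finset.mem_insert.1 hT with rfl | hT
        · by_cases h : T' = T
          · exact Finset.mem_insert.2 (Or.inl h)
          · exact Finset.mem_insert_of_mem (hsup T' hTT' h)
        · exact Finset.mem_insert_of_mem (hup T hT T' hTT')) U'.toScheme U'.ι U'.range_ι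
    have hle : Set.range l ⊆ Set.range U'.ι := by
      rw [hl, U'.range_ι]
      intro x hx
      obtain ⟨T, hT, hx⟩ := (memU 𝒮 x).1 hx
      exact (memU _ x).2 ⟨T, Finset.mem_insert_of_mem hT, hx⟩
    let k : V ⟶ U'.toScheme := IsOpenImmersion.lift U'.ι l hle
    have hk : k ≫ U'.ι = l := IsOpenImmersion.lift_fac _ _ _
    haveI : IsOpenImmersion (k ≫ U'.ι) := by rw [hk]; infer_instance
    haveI : IsOpenImmersion k := IsOpenImmersion.of_comp k U'.ι
    let C : TopologicalSpace.Closeds U'.toScheme :=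
      ⟨(Set.range k)ᶜ, k.isOpenEmbedding.isOpen_range.isClosed_compl⟩
    let c := (Scheme.IdealSheafData.vanishingIdeal C).subschemeι
    haveI : IsClosedImmersion c := inferInstanceAs (IsClosedImmersion (Scheme.IdealSheafData.subschemeι _))
    have hc : Set.range c = (Set.range k)ᶜ := by
      rw [Scheme.IdealSheafData.range_subschemeι, Scheme.IdealSheafData.coe_support_vanishingIdeal]
      rfl
    haveI : IsReduced (Scheme.IdealSheafData.vanishingIdeal C).subscheme :=
      Groth.Agent.RedSepLib.isReduced_vanishingIdeal_subscheme C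
    have hrange : Set.range (c ≫ U'.ι) = atom (fun i => (O i : Set X)) (S : Set ι) := by
      show Set.range (U'.ι ∘ c) = _
      rw [Set.range_comp, hc]
      ext x
      constructor
      · rintro ⟨z, hz, rfl⟩
        have hnot : U'.ι z ∉ U 𝒮 := fun h => by
          obtain ⟨v, hv⟩ := hl.ge h
          refine hz ⟨v, U'.ι.isOpenEmbedding.injective ?_⟩
          rw [← Scheme.Hom.comp_apply, hk, hv]
        obtain ⟨T, hT, hzT⟩ := (memU _ _).1 (U'.range_ι.le ⟨z, rfl⟩)
        rcases Finset.mem_insert.1 hT with rfl | hT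
        · intro i
          refine ⟨fun hi => ?_, fun hi => hzT i hi⟩
          by_contra hiS
          refine hnot ((memU _ _).2 ⟨insert i T, hsup _ (Finset.subset_insert i T)
            (fun h => hiS (h ▸ Finset.mem_insert_self i T)), fun i' hi' => ?_⟩)
          rcases Finset.mem_insert.1 hi' with rfl | hi'
          · exact hi
          · exact hzT i' hi'
        · exact absurd ((memU _ _).2 ⟨T, hT, hzT⟩) hnot
      · intro hx
        obtain ⟨z, rfl⟩ : x ∈ Set.range U'.ι := U'.range_ι.ge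
          ((memU _ _).2 ⟨S, Finset.mem_insert_self S 𝒮, fun i hi => (hx i).2 hi⟩)
        refine ⟨z, ?_, rfl⟩
        rintro ⟨v, rfl⟩
        obtain ⟨T, hT, hzT⟩ := (memU 𝒮 _).1 (hl.le ⟨v, (congrArg (fun f : V ⟶ X => f v) hk).symm.trans
          (Scheme.Hom.comp_apply k U'.ι v)⟩)
        exact hS.2 (hup T hT S fun i hi => (hx i).1 (hzT i hi))
    let F' := (EtShriek.restrAlong U'.ι).obj F
    obtain ⟨w, hw⟩ := shortExact_extZero_pull' c k (by rw [hc, compl_compl]) F'
    have hconstr : Topology.IsConstructible (Set.range (c ≫ U'.ι)) := by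
      rw [hrange, show atom (fun i => (O i : Set X)) (S : Set ι) =
          ⋂ i, (if i ∈ S then (O i : Set X) else (O i : Set X)ᶜ) by
        ext x
        simp only [atom, Set.mem_iInter, Set.mem_ofPred_eq, Finset.mem_coe]
        exact forall_congr' fun i => by by_cases h : i ∈ S <;> simp [h]]
      refine IsConstructible.iInter fun i => ?_
      have hi := (hOc i).isConstructible (O i).2
      by_cases h : i ∈ S
      · simp only [h, if_true]; exact hi
      · simp only [h, if_false]; exact hi.compl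
    have hflc : EtCoh.IsFiniteLocallyConstant ((EtCoh.pull c).obj F') := by
      refine flc_iso ((EtCoh.pull c).mapIso ((restrPullIso U'.ι).app F).symm)
        (flc_iso (F := (EtCoh.pull (c ≫ U'.ι)).obj F) ((EtCore.pullComp c U'.ι).app F)
          (flc_of_loc (loc_descend fun z => ?_)))
      obtain ⟨T, g, hg, hsub, hgl⟩ := hO (S : Set ι) ⟨_, hrange.le ⟨z, rfl⟩⟩
      haveI := hg
      exact ⟨_, (⊤ : Scheme.Opens _).ι, inferInstance, ⟨z, trivial⟩, rfl,
        loc_of_flc (flc_open_of_range_subset (c ≫ U'.ι) g ⊤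
          (fun z' _ => hsub (hrange.le ⟨z', rfl⟩)) hgl)⟩
    refine filtTo_step ((extZeroCompObj k U'.ι l hk F).inv ≫
      (EtShriek.extZero U'.ι).map ((EtShriek.extZeroAdj k).counit.app F')) ?_ hIH
    refine ⟨U'.toScheme, _, U'.ι, inferInstance, c, inferInstance, (EtCoh.pull c).obj F',
      (EtShriek.extZero U'.ι).map ((EtCoh.pullPushAdj c).unit.app F'), ?_, hconstr, hflc, ?_⟩
    · rw [Category.assoc, ← Functor.map_comp, w, Functor.map_zero, comp_zero]
    · haveI : (EtShriek.extZero U'.ι).IsLeftAdjoint := (EtShriek.extZeroAdj U'.ι).isLeftAdjoint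
      let S₁ := (ShortComplex.mk _ _ w).map (EtShriek.extZero U'.ι)
      refine ShortComplex.shortExact_of_iso (S₁ := S₁) (ShortComplex.isoMk (extZeroCompObj k U'.ι l hk F)
        (Iso.refl _) (Iso.refl _) ?_ ?_) (hw.map_of_exact (EtShriek.extZero U'.ι))
      · exact ((extZeroCompObj k U'.ι l hk F).hom_inv_id_assoc _).trans (Category.comp_id _).symm
      · exact (Category.id_comp _).trans (Category.comp_id _).symm

end Groth.Agent.Constr24
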