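import Groth.Agent.Lib.Constr24.Atoms
import Groth.Agent.Lib.LocConst24.Iff
import Groth.Agent.Lib.EtStalk.Agree

/-!
# Supports of constructible sheaves are constructible
-/

universe u

set_option maxHeartbeats 400000

open CategoryTheory CategoryTheory.Limits AlgebraicGeometry Opposite Topology
open Groth.Agent.EtStalk

namespace Groth.Agent.Constr24

open Groth.Agent.LocConst24

variable {X Y : Scheme.{u}}

/-- Points where all geometric stalks vanish. -/
def zeroLocus (F : EtCoh.Ab X) : Set X :=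
  {x : X | ∀ (Ω : Type u) [Field Ω] [IsSepClosed Ω] (ξ : Spec (CommRingCat.of Ω) ⟶ X),
    Set.range ξ = {x} → Subsingleton ((EtCoh.stalk ξ).obj F)}

theorem apply_default_of_range {Ω : Type u} [Field Ω] (ξ : Spec (CommRingCat.of Ω) ⟶ X) {x : X}
    (h : Set.range ξ = {x}) : ξ default = x := by
  have : ξ default ∈ ({x} : Set X) := h ▸ ⟨default, rfl⟩
  exact this

theorem range_eq_singleton {Ω : Type u} [Field Ω] (ξ : Spec (CommRingCat.of Ω) ⟶ X) :
    Set.range ξ = {ξ default} := by
  refine Set.Subset.antisymm ?_ (Set.singleton_subset_iff.2 ⟨default, rfl⟩)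
  rintro _ ⟨a, rfl⟩
  rw [show a = default from Subsingleton.elim (α := PrimeSpectrum Ω) _ _]
  rfl

theorem exists_lift_immersion {T : Scheme.{u}} (g : T ⟶ X) [IsImmersion g] {Ω : Type u} [Field Ω]
    (ξ : Spec (CommRingCat.of Ω) ⟶ X) (h : ξ default ∈ Set.range g) :
    ∃ ζ : Spec (CommRingCat.of Ω) ⟶ T, ζ ≫ g = ξ := by
  let a := pullback.fst ξ g
  have ha : Set.range a = Set.univ := by
    rw [Scheme.Pullback.range_fst]
    exact Set.eq_univ_of_forall fun z => by
      rw [show z = default from Subsingleton.elim (α := PrimeSpectrum Ω) _ _]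
      exact h
  haveI : Surjective a := ⟨fun z => ha.ge (Set.mem_univ z)⟩
  haveI : IsClosedImmersion a := IsClosedImmersion.of_isPreimmersion a (by rw [ha]; exact isClosed_univ)
  haveI : IsIso a := isIso_of_isClosedImmersion_of_surjective a
  exact ⟨inv a ≫ pullback.snd ξ g, by rw [Category.assoc, ← pullback.condition, IsIso.inv_hom_id_assoc]⟩

theorem zeroLocus_pull {T : Scheme.{u}} (g : T ⟶ X) [IsImmersion g] (F : EtCoh.Ab X) :
    zeroLocus ((EtCoh.pull g).obj F) = g ⁻¹' zeroLocus F := by
  ext t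
  constructor
  · intro h Ω _ _ ξ hξ
    obtain ⟨ζ, rfl⟩ := exists_lift_immersion g ξ ⟨t, (apply_default_of_range ξ hξ).symm⟩
    have ht : ζ default = t := g.isEmbedding.injective (apply_default_of_range _ hξ)
    have hζ := h Ω ζ (by rw [range_eq_singleton, ht])
    exact (Equiv.ofBijective _ (ConcreteCategory.bijective_of_isIso (stalkPull g ζ F))).subsingleton
  · intro h Ω _ _ ζ hζ
    have hξ := h Ω (ζ ≫ g) (by
      rw [range_eq_singleton, Scheme.Hom.comp_apply, apply_default_of_range ζ hζ])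
    exact (Equiv.ofBijective _ (ConcreteCategory.bijective_of_isIso (stalkPull g ζ F))).symm.subsingleton

theorem isClopen_zeroLocus {F : EtCoh.Ab X} (h : Loc F) : IsClopen (zeroLocus F) := by
  classical
  have key : ∀ x : X, ∃ N : Set X, IsOpen N ∧ x ∈ N ∧ ((N ⊆ zeroLocus F) ∨ N ⊆ (zeroLocus F)ᶜ) := by
    intro x
    obtain ⟨U, u', hu, M, _, hM, σ, hσ⟩ := h x
    haveI : AlgebraicGeometry.Etale U.hom := U.prop
    refine ⟨Set.range U.hom, (U.hom).isOpenMap.isOpen_range, ⟨u', hu⟩, ?_⟩
    by_cases hM' : Subsingleton M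
    · refine Or.inl ?_
      rintro _ ⟨v, rfl⟩ Ω _ _ ξ hξ
      obtain ⟨φ, -⟩ := Scheme.pointSmallEtaleFiberObjToPreimage_surjective ξ
        (apply_default_of_range ξ hξ) U ⟨v, rfl⟩
      exact (hσ Ω ξ φ).2.subsingleton
    · refine Or.inr ?_
      rintro _ ⟨v, rfl⟩ hv
      obtain ⟨φ, -⟩ := exists_fib U v
      haveI := hv _ (geomPt X (U.hom v)) (by rw [range_eq_singleton, geomPt_default])
      exact hM' ((hσ _ _ φ).1.subsingleton)
  constructor
  · rw [← isOpen_compl_iff, isOpen_iff_forall_mem_open]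
    intro x hx
    obtain ⟨N, hN, hxN, hN' | hN'⟩ := key x
    · exact absurd (hN' hxN) hx
    · exact ⟨N, hN', hN, hxN⟩
  · rw [isOpen_iff_forall_mem_open]
    intro x hx
    obtain ⟨N, hN, hxN, hN' | hN'⟩ := key x
    · exact ⟨N, hN', hN, hxN⟩
    · exact absurd hx (hN' hxN)

theorem isConstructible_zeroLocus [CompactSpace X] [QuasiSeparatedSpace X] {F : EtCoh.Ab X}
    (hF : EtPBC.IsConstructible F) : Topology.IsConstructible (zeroLocus F) := by
  obtain ⟨n, T, g, hg, hgc, -, hgu, hgl⟩ := adapted_univ hF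
  have e : zeroLocus F = ⋃ i, g i '' zeroLocus ((EtCoh.pull (g i)).obj F) := by
    ext x
    constructor
    · intro hx
      obtain ⟨i, t, rfl⟩ := Set.mem_iUnion.1 (hgu.ge (Set.mem_univ x))
      haveI := hg i
      exact Set.mem_iUnion.2 ⟨i, t, by rw [zeroLocus_pull]; exact hx, rfl⟩
    · rintro hx
      obtain ⟨i, t, ht, rfl⟩ := Set.mem_iUnion.1 hx
      haveI := hg i
      rw [zeroLocus_pull] at ht
      exact ht
  rw [e]
  refine IsConstructible.iUnion fun i => ?_
  haveI := hg i
  have hr := isConstructible_of_subtype_univ (hgc i)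
  haveI : CompactSpace (T i) := ⟨(g i).isEmbedding.isCompact_iff.2 (by
    rw [Set.image_univ]; exact isCompact_constructible hr)⟩
  haveI : QuasiSeparatedSpace (T i) := quasiSeparatedSpace_of_quasiSeparated (g i)
  have hc := isClopen_zeroLocus (loc_of_flc (hgl i))
  exact isConstructible_image_immersion _ hr (hc.1.isCompact.isConstructible hc.2)

theorem isConstructible_surjective_locus [CompactSpace X] [QuasiSeparatedSpace X] {F G : EtCoh.Ab X}
    (φ : F ⟶ G) (hF : EtPBC.IsConstructible F) (hG : EtPBC.IsConstructible G) :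
    Topology.IsConstructible {x : X | ∀ (Ω : Type u) [Field Ω] [IsSepClosed Ω]
      (ξ : Spec (CommRingCat.of Ω) ⟶ X), Set.range ξ = {x} →
        Function.Surjective ((EtCoh.stalk ξ).map φ)} := by
  convert isConstructible_zeroLocus (constructible_cokernel φ hF hG) using 1
  ext x
  refine forall_congr' fun Ω => forall_congr' fun _ => forall_congr' fun _ => forall_congr' fun ξ =>
    forall_congr' fun _ => ?_
  have hπ : Function.Surjective ((EtCoh.stalk ξ).map (cokernel.π φ)) :=
    (epi_iff_stalk _).1 inferInstance Ω ξ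
  have hex := function_exact_stalk (S := ShortComplex.mk φ (cokernel.π φ) (cokernel.condition φ))
    (ShortComplex.exact_of_g_is_cokernel _ (cokernelIsCokernel φ)) Ω ξ
  constructor
  · intro hs
    refine ⟨fun a b => ?_⟩
    obtain ⟨p, rfl⟩ := hπ a
    obtain ⟨q, rfl⟩ := hπ b
    have := hex.apply_apply_eq_zero
    obtain ⟨p', rfl⟩ := hs p
    obtain ⟨q', rfl⟩ := hs q
    exact (this p').trans (this q').symm
  · intro _ p
    exact (hex p).1 (Subsingleton.elim _ _)

end Groth.Agent.Constr24
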