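import Groth.Agent.Lib.Constr24.Sub
import Groth.Agent.Lib.Constr24.Supp
import Groth.Agent.Lib.LocConst24.GeomPt

/-!
# Constructibility via the cardinality of stalks
-/

universe u

set_option maxHeartbeats 400000

open CategoryTheory CategoryTheory.Limits AlgebraicGeometry Opposite Topology
open Groth.Agent.EtStalk Groth.Agent.EtSite

namespace Groth.Agent.Constr24

open Groth.Agent.LocConst24

variable {X : Scheme.{u}}

/-- Points with a geometric stalk of a given cardinality. -/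
def level (F : EtCoh.Ab X) (n : ℕ) : Set X :=
  {x : X | ∃ (Ω : Type u) (_ : Field Ω) (_ : IsSepClosed Ω) (ξ : Spec (CommRingCat.of Ω) ⟶ X),
    Set.range ξ = {x} ∧ Nat.card ((EtCoh.stalk ξ).obj F) = n}

theorem level_pull {T : Scheme.{u}} (g : T ⟶ X) [IsImmersion g] (F : EtCoh.Ab X) (n : ℕ) :
    level ((EtCoh.pull g).obj F) n = g ⁻¹' level F n := by
  ext t
  constructor
  · rintro ⟨Ω, _, _, ζ, hζ, hn⟩
    refine ⟨Ω, inferInstance, inferInstance, ζ ≫ g, ?_, ?_⟩
    · rw [range_eq_singleton, Scheme.Hom.comp_apply, apply_default_of_range ζ hζ]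
    · rw [← hn]
      exact Nat.card_congr (Equiv.ofBijective _ (ConcreteCategory.bijective_of_isIso (stalkPull g ζ F)))
  · rintro ⟨Ω, _, _, ξ, hξ, hn⟩
    obtain ⟨ζ, rfl⟩ := exists_lift_immersion g ξ ⟨t, (apply_default_of_range ξ hξ).symm⟩
    refine ⟨Ω, inferInstance, inferInstance, ζ, ?_, ?_⟩
    · rw [range_eq_singleton]
      exact congrArg (fun y => ({y} : Set T)) (g.isEmbedding.injective (apply_default_of_range (ζ ≫ g) hξ))
    · rw [← hn]
      exact Nat.card_congr
        (Equiv.ofBijective _ (ConcreteCategory.bijective_of_isIso (stalkPull g ζ F))).symm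

theorem card_stalk_eq {F : EtCoh.Ab X} {U : X.Etale} {M : Type} [AddCommGroup M]
    {σ : M →+ F.obj.obj (op U)} (hσ : BijAt F σ) (v : U.left) {Ω : Type u} [Field Ω] [IsSepClosed Ω]
    (ξ : Spec (CommRingCat.of Ω) ⟶ X) (hξ : Set.range ξ = {U.hom v}) :
    Nat.card ((EtCoh.stalk ξ).obj F) = Nat.card M := by
  obtain ⟨φ, -⟩ := Scheme.pointSmallEtaleFiberObjToPreimage_surjective ξ
    (apply_default_of_range ξ hξ) U ⟨v, rfl⟩
  exact (Nat.card_eq_of_bijective _ (hσ Ω ξ φ)).symm

theorem isClopen_level {F : EtCoh.Ab X} (h : Loc F) (n : ℕ) : IsClopen (level F n) := by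
  classical
  have key : ∀ x : X, ∃ N : Set X, IsOpen N ∧ x ∈ N ∧ (N ⊆ level F n ∨ N ⊆ (level F n)ᶜ) := by
    intro x
    obtain ⟨U, u', hu, M, _, hM, σ, hσ⟩ := h x
    haveI : AlgebraicGeometry.Etale U.hom := U.prop
    refine ⟨Set.range U.hom, (U.hom).isOpenMap.isOpen_range, ⟨u', hu⟩, ?_⟩
    by_cases hn : Nat.card M = n
    · refine Or.inl ?_
      rintro _ ⟨v, rfl⟩
      have hr : Set.range (geomPt X (U.hom v)) = {U.hom v} := by
        rw [range_eq_singleton, geomPt_default]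
      exact ⟨_, inferInstance, inferInstance, geomPt X (U.hom v), hr,
        (card_stalk_eq hσ v _ hr).trans hn⟩
    · refine Or.inr ?_
      rintro _ ⟨v, rfl⟩ ⟨Ω, _, _, ξ, hξ, hξn⟩
      exact hn ((card_stalk_eq hσ v ξ hξ).symm.trans hξn)
  constructor
  · rw [← isOpen_compl_iff, isOpen_iff_forall_mem_open]
    intro x hx
    obtain ⟨N, hN, hxN, hN' | hN'⟩ := key x
    · exact absurd (hN' hxN) hx
    · exact ⟨N, hN', hN, hxN⟩
  · rw [isOpen_iff_forall_mem_open]
    intro x hx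
    obtain ⟨N, hN, hxN, hN' | hN'⟩ := key x
    · exact ⟨N, hN', hN, hxN⟩
    · exact absurd hx (hN' hxN)

theorem isConstructible_level [CompactSpace X] [QuasiSeparatedSpace X] {F : EtCoh.Ab X}
    (hF : EtPBC.IsConstructible F) (k : ℕ) : Topology.IsConstructible (level F k) := by
  obtain ⟨n, T, g, hg, hgc, -, hgu, hgl⟩ := adapted_univ hF
  have e : level F k = ⋃ i, g i '' level ((EtCoh.pull (g i)).obj F) k := by
    ext x
    constructor
    · intro hx
      obtain ⟨i, t, rfl⟩ := Set.mem_iUnion.1 (hgu.ge (Set.mem_univ x))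
      haveI := hg i
      exact Set.mem_iUnion.2 ⟨i, t, by rw [level_pull]; exact hx, rfl⟩
    · rintro hx
      obtain ⟨i, t, ht, rfl⟩ := Set.mem_iUnion.1 hx
      haveI := hg i
      rw [level_pull] at ht
      exact ht
  rw [e]
  refine IsConstructible.iUnion fun i => ?_
  haveI := hg i
  have hr := isConstructible_of_subtype_univ (hgc i)
  haveI : CompactSpace (T i) := ⟨(g i).isEmbedding.isCompact_iff.2 (by
    rw [Set.image_univ]; exact isCompact_constructible hr)⟩
  haveI : QuasiSeparatedSpace (T i) := quasiSeparatedSpace_of_quasiSeparated (g i)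
  have hc := isClopen_level (loc_of_flc (hgl i)) k
  exact isConstructible_image_immersion _ hr (hc.1.isCompact.isConstructible hc.2)

theorem isLocallyConstructible_level {F : EtCoh.Ab X} (hF : EtPBC.IsConstructible F) (k : ℕ) :
    Topology.IsLocallyConstructible (level F k) := by
  intro x
  obtain ⟨U, hU, hxU, -⟩ := exists_affine_le (⊤ : X.Opens) (x := x) trivial
  haveI : IsAffine U.toScheme := hU
  refine ⟨(U : Set X), U.2.mem_nhds hxU, U.2, ?_⟩
  have := isConstructible_level (isConstructible_pull U.ι hF) k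
  rw [level_pull] at this
  exact this

/-- Near a dense point, a sheaf with finite stalks of constant cardinality is locally constant. -/
theorem exists_locAt_card {F : EtCoh.Ab X} (x : X) (hx : closure {x} = Set.univ) (n : ℕ)
    (hfin : ∀ (Ω : Type u) [Field Ω] [IsSepClosed Ω] (ξ : Spec (CommRingCat.of Ω) ⟶ X),
      Finite ((EtCoh.stalk ξ).obj F))
    (hcard : ∀ (Ω : Type u) [Field Ω] [IsSepClosed Ω] (ξ : Spec (CommRingCat.of Ω) ⟶ X),
      Nat.card ((EtCoh.stalk ξ).obj F) = n) :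
    ∃ (U : X.Etale) (u : U.left), U.hom u = x ∧
      ∃ (M : Type) (_ : AddCommGroup M) (_ : Finite M) (σ : M →+ F.obj.obj (op U)), BijAt F σ := by
  classical
  set ξ := geomPt X x
  haveI := hfin _ ξ
  haveI : Countable ((EtCoh.stalk ξ).obj F) := Finite.to_countable
  let e : Shrink.{0} ((EtCoh.stalk ξ).obj F) ≃+ (EtCoh.stalk ξ).obj F := Shrink.addEquiv
  haveI : Finite (Shrink.{0} ((EtCoh.stalk ξ).obj F)) := Finite.of_equiv _ e.symm.toEquiv
  let a : fib ξ (EtCoh.top X) := Over.homMk ξ (Category.comp_id _)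
  obtain ⟨U₂, -, a₂, σ, -, hσ⟩ := exists_lift_hom (F := F) ξ a e.toAddMonoidHom
  haveI : AlgebraicGeometry.Etale U₂.hom := U₂.prop
  haveI : LocallyQuasiFinite U₂.hom := FiniteSplit.locallyQuasiFinite_of_etale _
  have hpt : U₂.hom (fibPt a₂) = x := by
    have h1 : a₂.left ≫ U₂.hom = ξ := Over.w a₂
    exact (congrArg (fun r : Spec (CommRingCat.of (SeparableClosure (X.residueField x))) ⟶ X =>
      r default) h1).trans (geomPt_default x)
  haveI hdisc : DiscreteTopology ↥(U₂.hom ⁻¹' {x}) :=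
    isDiscrete_iff_discreteTopology.1 (Scheme.Hom.isDiscrete_preimage_singleton U₂.hom x)
  obtain ⟨O, hO, hO'⟩ := isOpen_induced_iff.1 (isOpen_discrete ({⟨fibPt a₂, hpt⟩} : Set ↥(U₂.hom ⁻¹' {x})))
  have ha₂O : fibPt a₂ ∈ O := by
    have : (⟨fibPt a₂, hpt⟩ : ↥(U₂.hom ⁻¹' {x})) ∈ Subtype.val ⁻¹' O := by rw [hO']; rfl
    exact this
  let N : U₂.left.Opens := ⟨O, hO⟩
  refine ⟨sub U₂ N, ⟨fibPt a₂, ha₂O⟩, hpt, Shrink.{0} ((EtCoh.stalk ξ).obj F), inferInstance,
    inferInstance, resSec (subHom U₂ N) σ, fun Ω _ _ η z₀ => ?_⟩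
  simp only [germ_resSec]
  set z := (Scheme.pointSmallEtale η).fiber.map (subHom U₂ N) z₀
  have hzN : fibPt z ∈ O := (z₀.left (default : Spec (CommRingCat.of Ω))).2
  have hinj : Function.Injective fun m => germ η F z (σ m) := by
    intro m m' heq
    have hS : fibPt z ∈ agree F (σ m) (σ m') := (mem_agree_iff_germ F z _ _).2 heq
    obtain ⟨y, hy, hyx⟩ := mem_closure_iff.1 (show U₂.hom (fibPt z) ∈ closure ({x} : Set X) by
      rw [hx]; trivial) _ (U₂.hom.isOpenMap _ ((isOpen_agree F (σ m) (σ m')).inter hO))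
        ⟨_, ⟨hS, hzN⟩, rfl⟩
    rw [Set.mem_singleton_iff.1 hyx] at hy
    obtain ⟨w, ⟨hwS, hwO⟩, hwx⟩ := hy
    have hwa : w = fibPt a₂ := by
      have : (⟨w, hwx⟩ : ↥(U₂.hom ⁻¹' {x})) ∈ Subtype.val ⁻¹' O := hwO
      rw [hO', Set.mem_singleton_iff] at this
      exact congrArg Subtype.val this
    have := (mem_agree_iff_germ F a₂ _ _).1 (hwa ▸ hwS)
    rw [hσ, hσ] at this
    exact e.injective this
  haveI := hfin Ω η
  refine (Nat.bijective_iff_injective_and_card _).2 ⟨hinj, ?_⟩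
  rw [Nat.card_congr e.toEquiv, hcard, hcard]

theorem isConstructible_iff_level [IsLocallyNoetherian X] (F : EtCoh.Ab X)
    (hfin : ∀ (Ω : Type u) [Field Ω] [IsSepClosed Ω] (ξ : Spec (CommRingCat.of Ω) ⟶ X),
      Finite ((EtCoh.stalk ξ).obj F)) :
    EtPBC.IsConstructible F ↔ ∀ n : ℕ, Topology.IsLocallyConstructible (level F n) := by
  refine ⟨fun h n => isLocallyConstructible_level h n, fun h => ?_⟩
  rw [isConstructible_iff_closures]
  intro x
  -- the cardinality near `x`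
  let k := Nat.card ((EtCoh.stalk (geomPt X x)).obj F)
  have hxk : x ∈ level F k := ⟨_, inferInstance, inferInstance, geomPt X x,
    by rw [range_eq_singleton, geomPt_default], rfl⟩
  -- every geometric stalk over a point of `level F k` has this cardinality
  have huniq : ∀ (y : X) (Ω : Type u) [Field Ω] [IsSepClosed Ω] (ξ : Spec (CommRingCat.of Ω) ⟶ X),
      Set.range ξ = {y} → y ∈ level F (Nat.card ((EtCoh.stalk ξ).obj F)) :=
    fun y Ω _ _ ξ hξ => ⟨Ω, inferInstance, inferInstance, ξ, hξ, rfl⟩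
  obtain ⟨U, hU, hxU, -⟩ := exists_affine_le (⊤ : X.Opens) (x := x) trivial
  haveI : IsAffine U.toScheme := hU
  haveI : IsLocallyNoetherian U.toScheme := isLocallyNoetherian_of_isOpenImmersion U.ι
  haveI : IsNoetherian U.toScheme := {}
  have hc : Topology.IsConstructible (U.ι ⁻¹' level F k) :=
    ((h k).preimage_of_isOpenEmbedding U.ι.isOpenEmbedding).isConstructible
  obtain ⟨κ, _, T, c, hci, -, -, hcu⟩ := exists_pieces hc
  obtain ⟨l, hl⟩ := Set.mem_iUnion.1 (hcu.ge (show (⟨x, hxU⟩ : U.toScheme) ∈ U.ι ⁻¹' level F k from hxk))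
  haveI := hci l
  obtain ⟨O, C, hO, hC, hOC⟩ := (c l ≫ U.ι).isLocallyClosed_range
  let V : X.Opens := U ⊓ ⟨O, hO⟩
  have hxl : x ∈ O ∩ C := by
    rw [← hOC]
    obtain ⟨t, ht⟩ := hl
    exact ⟨t, congrArg U.ι ht⟩
  let Z : TopologicalSpace.Closeds V.toScheme :=
    ⟨V.ι ⁻¹' closure {x}, isClosed_closure.preimage V.ι.continuous⟩
  let g : (Scheme.IdealSheafData.vanishingIdeal Z).subscheme ⟶ X :=
    (Scheme.IdealSheafData.vanishingIdeal Z).subschemeι ≫ V.ι
  haveI : IsImmersion g := inferInstanceAs (IsImmersion (_ ≫ _))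
  have hgr : Set.range g = (V : Set X) ∩ closure {x} := by
    show Set.range (V.ι ∘ (Scheme.IdealSheafData.vanishingIdeal Z).subschemeι) = _
    rw [Set.range_comp, Scheme.IdealSheafData.range_subschemeι,
      Scheme.IdealSheafData.coe_support_vanishingIdeal]
    show V.ι '' (V.ι ⁻¹' closure {x}) = _
    rw [Set.image_preimage_eq_range_inter, V.range_ι]
  have hsub : Set.range g ⊆ level F k := by
    rw [hgr]
    rintro y ⟨⟨-, hyO⟩, hyx⟩
    have hy : y ∈ Set.range (c l ≫ U.ι) := by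
      rw [hOC]
      exact ⟨hyO, closure_minimal (Set.singleton_subset_iff.2 hxl.2) hC hyx⟩
    obtain ⟨t, rfl⟩ := hy
    exact hcu.le (Set.mem_iUnion.2 ⟨l, t, rfl⟩)
  obtain ⟨t, ht⟩ : x ∈ Set.range g := hgr.ge ⟨⟨hxU, hxl.1⟩, subset_closure rfl⟩
  have hdense : closure ({t} : Set _) = Set.univ := by
    refine Set.eq_univ_of_forall fun s => ?_
    rw [g.isEmbedding.isInducing.closure_eq_preimage_closure_image, Set.image_singleton, ht]
    exact (hgr.le ⟨s, rfl⟩).2
  -- on a single point, any two geometric stalks have the same cardinality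
  have hpt : ∀ (y : X) (n m : ℕ), y ∈ level F n → y ∈ level F m → n = m := by
    intro y n m hn hm
    obtain ⟨Ω, _, _, ξ, hξ, hξn⟩ := hn
    obtain ⟨Ω', _, _, ξ', hξ', hξm⟩ := hm
    rw [← hξn, ← hξm, natCard_stalk_eq F ξ y (apply_default_of_range ξ hξ),
      natCard_stalk_eq F ξ' y (apply_default_of_range ξ' hξ')]
  obtain ⟨U', u', hu, M, _, hM, σ, hσ⟩ := exists_locAt_card (F := (EtCoh.pull g).obj F) t hdense k
    (fun Ω _ _ η => by
      haveI := hfin Ω (η ≫ g)
      exact Finite.of_equiv _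
        (Equiv.ofBijective _ (ConcreteCategory.bijective_of_isIso (stalkPull g η F))))
    (fun Ω _ _ η => by
      rw [← Nat.card_congr
        (Equiv.ofBijective _ (ConcreteCategory.bijective_of_isIso (stalkPull g η F)))]
      refine hpt _ _ _ (huniq _ Ω (η ≫ g) (range_eq_singleton _)) (hsub ⟨η default, rfl⟩))
  haveI : AlgebraicGeometry.Etale U'.hom := U'.prop
  let N : (Scheme.IdealSheafData.vanishingIdeal Z).subscheme.Opens :=
    ⟨Set.range U'.hom, (U'.hom).isOpenMap.isOpen_range⟩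
  obtain ⟨O', hO'o, hO'⟩ := g.isEmbedding.isInducing.isOpen_iff.1 N.2
  refine ⟨V ⊓ ⟨O', hO'o⟩, N.toScheme, N.ι ≫ g, inferInstance,
    ⟨⟨hxU, hxl.1⟩, by
      have : t ∈ g ⁻¹' O' := by rw [hO']; exact ⟨u', hu⟩
      exact ht ▸ this⟩, ?_, ?_⟩
  · show Set.range (g ∘ N.ι) = ((V : Set X) ∩ O') ∩ closure {x}
    rw [Set.range_comp, N.range_ι, show (N : Set _) = g ⁻¹' O' from hO'.symm,
      Set.image_preimage_eq_range_inter]
    rw [hgr, Set.inter_right_comm]
  · refine flc_iso ((EtCore.pullComp N.ι g).app F).symm (flc_of_loc (loc_pull_of_forall N.ι fun s => ?_))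
    obtain ⟨v, hv⟩ := s.2
    exact ⟨U', v, hv, M, inferInstance, hM, σ, hσ⟩

end Groth.Agent.Constr24
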