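import Groth.Agent.Lib.Constr24.Presentation
import Groth.Agent.Lib.EtColim.Sections24
import Mathlib.CategoryTheory.Limits.Types.Filtered

/-!
# Constructible sheaves are compact objects
-/

universe u

set_option maxHeartbeats 400000

open CategoryTheory CategoryTheory.Limits AlgebraicGeometry Opposite Topology
open Groth.Agent.EtStalk Groth.Agent.EtSite

namespace Groth.Agent.Constr24

variable {X : Scheme.{u}}

/-- Maps into a filtered colimit come from a stage, uniquely up to transition. -/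
def Cpt (P : EtCoh.Ab X) : Prop :=
  ∀ (J : Type u) [SmallCategory J] [IsFiltered J] (D : J ⥤ EtCoh.Ab X) (c : Cocone D),
    IsColimit c → (∀ f : P ⟶ c.pt, ∃ (j : J) (g : P ⟶ D.obj j), g ≫ c.ι.app j = f) ∧
      ∀ (j : J) (g g' : P ⟶ D.obj j), g ≫ c.ι.app j = g' ≫ c.ι.app j →
        ∃ (k : J) (a : j ⟶ k), g ≫ D.map a = g' ≫ D.map a

theorem cpt_extZeroConst (V : X.Etale) [CompactSpace V.left] [QuasiSeparatedSpace V.left] (n : ℕ) :
    Cpt (EtPBC.extZeroConst V (ZMod n)) := by
  intro J _ _ D c hc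
  let adj := (constantSheafAdj (X.smallEtaleTopology.over V) AddCommGrpCat.{u + 1}
    (T := Over.mk (𝟙 V)) Over.mkIdTerminal).comp (EtPBC.extZeroAdj V)
  let A := AddCommGrpCat.of (ULift.{u + 1} (ZMod n))
  let gen : A := ULift.up 1
  have hgen : ∀ (G : EtCoh.Ab X) (g g' : EtPBC.extZeroConst V (ZMod n) ⟶ G),
      g.hom.app (op V) (adj.unit.app A gen) = g'.hom.app (op V) (adj.unit.app A gen) → g = g' := by
    intro G g g' h
    apply (adj.homEquiv A G).injective
    rw [Adjunction.homEquiv_unit, Adjunction.homEquiv_unit]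
    refine AddCommGrpCat.ext fun x => ?_
    obtain ⟨i, hi⟩ : ∃ i : ℤ, x = i • gen := ⟨ZMod.cast x.down, ULift.ext _ _ (by
      show x.down = (ZMod.cast x.down : ℤ) • (1 : ZMod n)
      rw [zsmul_eq_mul, mul_one, ZMod.intCast_zmod_cast])⟩
    subst hi
    rw [map_zsmul, map_zsmul]
    exact congrArg (i • ·) h
  have hn0 : n • adj.unit.app A gen = 0 := by
    rw [← map_nsmul, show n • gen = 0 from ULift.ext _ _ (by simp [gen]), map_zero]
  refine ⟨fun f => ?_, fun j g g' h => ?_⟩
  · let s : c.pt.obj.obj (op V) := f.hom.app (op V) (adj.unit.app A gen)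
    obtain ⟨j, t, ht⟩ := EtColim.exists_sec_rep V hc s
    obtain ⟨k, a, hk⟩ := EtColim.exists_sec_eq V hc j (n • t) 0 (by
      rw [map_nsmul, ht, map_zero]
      show n • f.hom.app (op V) (adj.unit.app A gen) = 0
      exact (map_nsmul (f.hom.app (op V)).hom n _).symm.trans
        ((congrArg (f.hom.app (op V)) hn0).trans (map_zero _)))
    let t' : (D.obj k).obj.obj (op V) := (D.map a).hom.app (op V) t
    have ht0 : n • t' = 0 := by rw [← map_nsmul, hk, map_zero]
    let hl : ZMod n →+ (D.obj k).obj.obj (op V) := ZMod.lift n ⟨zmultiplesHom _ t', by simpa using ht0⟩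
    let h : A ⟶ (D.obj k).obj.obj (op V) :=
      AddCommGrpCat.ofHom (hl.comp AddEquiv.ulift.toAddMonoidHom)
    refine ⟨k, (adj.homEquiv A (D.obj k)).symm h, hgen _ _ _ ?_⟩
    have e := (adj.homEquiv A (D.obj k)).apply_symm_apply h
    rw [Adjunction.homEquiv_unit] at e
    show (c.ι.app k).hom.app (op V) (((adj.homEquiv A (D.obj k)).symm h).hom.app (op V)
      (adj.unit.app A gen)) = s
    refine (congrArg ((c.ι.app k).hom.app (op V)) ((ConcreteCategory.congr_hom e gen).trans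
      (show hl 1 = t' by
        rw [show (1 : ZMod n) = ((1 : ℤ) : ZMod n) by norm_num, ZMod.lift_coe]; simp))).trans ?_
    exact (ConcreteCategory.congr_hom (congrArg (fun φ : D.obj j ⟶ c.pt => φ.hom.app (op V)) (c.w a)) t).trans ht
  · obtain ⟨k, a, hk⟩ := EtColim.exists_sec_eq V hc j (g.hom.app (op V) (adj.unit.app A gen))
      (g'.hom.app (op V) (adj.unit.app A gen))
      (congrArg (fun φ : EtPBC.extZeroConst V (ZMod n) ⟶ c.pt => φ.hom.app (op V) (adj.unit.app A gen)) h)
    exact ⟨k, a, hgen _ _ _ hk⟩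

theorem cpt_biproduct {n : ℕ} (f : Fin n → EtCoh.Ab X) (h : ∀ i, Cpt (f i)) : Cpt (⨁ f) := by
  classical
  intro J _ _ D c hc
  refine ⟨fun φ => ?_, fun j g g' e => ?_⟩
  · choose j g hg using fun i => (h i J D c hc).1 (biproduct.ι f i ≫ φ)
    obtain ⟨k, hk⟩ := IsFiltered.sup_objs_exists (Finset.univ.image j)
    have a : ∀ i, j i ⟶ k := fun i => (hk (Finset.mem_image.2 ⟨i, Finset.mem_univ _, rfl⟩)).some
    refine ⟨k, biproduct.desc fun i => g i ≫ D.map (a i), biproduct.hom_ext' _ _ fun i => ?_⟩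
    rw [biproduct.ι_desc_assoc, Category.assoc, c.w, hg]
  · have h' : ∀ i, ∃ (k : J) (a : j ⟶ k),
        (biproduct.ι f i ≫ g) ≫ D.map a = (biproduct.ι f i ≫ g') ≫ D.map a := fun i =>
      (h i J D c hc).2 j _ _ (by rw [Category.assoc, Category.assoc, e])
    choose k a ha using h'
    obtain ⟨m, hm⟩ := IsFiltered.sup_objs_exists (insert j (Finset.univ.image k))
    let H : Finset (Σ' (X Y : J) (_ : X ∈ insert j (Finset.univ.image k))
        (_ : Y ∈ insert j (Finset.univ.image k)), X ⟶ Y) :=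
      Finset.univ.image fun i : Fin n => ⟨j, k i, Finset.mem_insert_self _ _,
        Finset.mem_insert_of_mem (Finset.mem_image.2 ⟨i, Finset.mem_univ _, rfl⟩), a i⟩
    obtain ⟨S, T, hT⟩ := IsFiltered.sup_exists (insert j (Finset.univ.image k)) H
    refine ⟨S, T (Finset.mem_insert_self _ _), biproduct.hom_ext' _ _ fun i => ?_⟩
    have hi : a i ≫ T (Finset.mem_insert_of_mem (Finset.mem_image.2 ⟨i, Finset.mem_univ _, rfl⟩)) =
        T (Finset.mem_insert_self _ _) :=
      hT _ _ (Finset.mem_image.2 ⟨i, Finset.mem_univ _, rfl⟩)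
    rw [← hi, D.map_comp]
    simp only [← Category.assoc]
    rw [ha]

theorem cpt_cokernel {A B : EtCoh.Ab X} (φ : A ⟶ B) (hA : Cpt A) (hB : Cpt B) : Cpt (cokernel φ) := by
  intro J _ _ D c hc
  refine ⟨fun f => ?_, fun j g g' e => ?_⟩
  · obtain ⟨j, g, hg⟩ := (hB J D c hc).1 (cokernel.π φ ≫ f)
    obtain ⟨k, a, hk⟩ := (hA J D c hc).2 j (φ ≫ g) 0 (by
      rw [Category.assoc, hg, ← Category.assoc, cokernel.condition, zero_comp, zero_comp])
    refine ⟨k, cokernel.desc φ (g ≫ D.map a) (by rw [← Category.assoc, hk, zero_comp]), ?_⟩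
    apply (cancel_epi (cokernel.π φ)).1
    rw [cokernel.π_desc_assoc, Category.assoc, c.w, hg]
  · obtain ⟨k, a, hk⟩ := (hB J D c hc).2 j (cokernel.π φ ≫ g) (cokernel.π φ ≫ g') (by
      rw [Category.assoc, Category.assoc, e])
    exact ⟨k, a, (cancel_epi (cokernel.π φ)).1 (by simpa only [Category.assoc] using hk)⟩

theorem cpt_iso {P Q : EtCoh.Ab X} (e : P ≅ Q) (h : Cpt P) : Cpt Q := by
  intro J _ _ D c hc
  refine ⟨fun f => ?_, fun j g g' he => ?_⟩
  · obtain ⟨j, g, hg⟩ := (h J D c hc).1 (e.hom ≫ f)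
    exact ⟨j, e.inv ≫ g, by rw [Category.assoc, hg, e.inv_hom_id_assoc]⟩
  · obtain ⟨k, a, hk⟩ := (h J D c hc).2 j (e.hom ≫ g) (e.hom ≫ g') (by
      rw [Category.assoc, Category.assoc, he])
    exact ⟨k, a, (cancel_epi e.hom).1 (by simpa only [Category.assoc] using hk)⟩

theorem cpt_of_constructible [CompactSpace X] [QuasiSeparatedSpace X] {F : EtCoh.Ab X}
    (hF : EtPBC.IsConstructible F) : Cpt F := by
  obtain ⟨a, b, U, V, n, m, hU, hV, φ, ⟨e⟩⟩ := (constructible_iff_presentation F).1 hF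
  refine cpt_iso e.symm (cpt_cokernel φ (cpt_biproduct _ fun j => ?_) (cpt_biproduct _ fun i => ?_))
  · haveI := (hV j).2; exact cpt_extZeroConst _ _
  · haveI := (hU i).2; exact cpt_extZeroConst _ _

theorem preservesColimitsOfShape_coyoneda [CompactSpace X] [QuasiSeparatedSpace X] {F : EtCoh.Ab X}
    (hF : EtPBC.IsConstructible F) (J : Type u) [SmallCategory J] [IsFiltered J] :
    PreservesColimitsOfShape J (coyoneda.obj (op F)) := by
  haveI : ∀ D : J ⥤ EtCoh.Ab X, PreservesColimit D (coyoneda.obj (op F)) := fun D =>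
    ⟨fun {c} hc => ⟨Types.FilteredColimit.isColimitOf' _ _
      (fun f => let ⟨j, g, hg⟩ := (cpt_of_constructible hF J D c hc).1 f; ⟨j, g, hg.symm⟩)
      (fun j g g' h => (cpt_of_constructible hF J D c hc).2 j g g' h)⟩⟩
  exact ⟨fun {_} => inferInstance⟩

end Groth.Agent.Constr24
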