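import Groth.Agent.Lib.Constr24.Atoms
import Groth.Agent.Lib.Weight4.DegLocus
import Groth.Agent.Lib.EtStalk.FiniteSplit

/-!
# Stratifications over which separated étale morphisms become finite
-/

universe u

set_option maxHeartbeats 400000

open CategoryTheory CategoryTheory.Limits AlgebraicGeometry Opposite Topology
open Groth.Agent.AlgSpDecent

namespace Groth.Agent.Constr24

variable {X Y : Scheme.{u}}

theorem isLocallyConstructible_deg_eq (f : X ⟶ Y) [Flat f] [LocallyOfFinitePresentation f]
    [IsSeparated f] [LocallyQuasiFinite f] [QuasiCompact f] (r : ℕ) :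
    IsLocallyConstructible {s : Y | DegStrat.deg f s = r} := by
  have hw : MoreMor.IsWeighting f (Weight.wt f) := by
    intro V g _ U hU
    haveI := hU
    let π := U.ι ≫ pullback.snd f g
    have : Flat π := inferInstance
    have h : MoreMor.fibreIntegral π (fun u => Weight.wt f (pullback.fst f g (U.ι u))) =
        fun v => (π.finrank v : ℤ) := funext fun v => by
      rw [← Weight.fibreIntegral_wt_eq_finrank π v]
      exact Weight.fibreIntegral_congr _ _ _ _ fun z _ =>
        (Weight.wt_of_commSq (f := f) (f' := π) (j := U.ι ≫ pullback.fst f g) (g := g)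
          (by rw [Category.assoc, Category.assoc, pullback.condition]) z).symm
    show IsLocallyConstant _
    rw [h]
    exact (π.isLocallyConstant_finrank).comp _
  have := Weight.isLocallyConstructible_fibreIntegral (Weight.wt f) hw (r : ℤ)
  simp only [← DegRank.deg_eq_fibreIntegral, Nat.cast_inj] at this
  exact this

/-- A separated quasi-compact étale morphism is finite over the strata of a constructible
stratification. -/
theorem exists_strata_finite [CompactSpace Y] [QuasiSeparatedSpace Y] (j : X ⟶ Y)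
    [AlgebraicGeometry.Etale j] [IsSeparated j] [QuasiCompact j] :
    ∃ (κ : Type) (_ : Finite κ) (T : κ → Scheme.{u}) (c : ∀ k, T k ⟶ Y),
      (∀ k, IsImmersion (c k)) ∧ (∀ k, Topology.IsConstructible (Set.range (c k))) ∧
      Pairwise (fun k l => Disjoint (Set.range (c k)) (Set.range (c l))) ∧
      (⋃ k, Set.range (c k)) = Set.univ ∧ ∀ k, IsFinite (pullback.snd j (c k)) := by
  classical
  haveI : LocallyQuasiFinite j := FiniteSplit.locallyQuasiFinite_of_etale j
  have hfin : ∀ y, IsFinite (j.fiberToSpecResidueField y) := fun y =>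
    DegRank.isFinite_fiber_of_finite j y (j.finite_preimage_singleton y)
  let E : ℕ → Set Y := fun r => {s | DegStrat.deg j s = r}
  have hE : ∀ r, Topology.IsConstructible (E r) := fun r =>
    (isLocallyConstructible_deg_eq j r).isConstructible
  obtain ⟨t, ht⟩ := exists_finite_subcover E hE (Set.eq_univ_of_forall fun s =>
    Set.mem_iUnion.2 ⟨_, rfl⟩)
  choose κ hκ T c hci hcc hcd hcu using fun r => exists_pieces (hE r)
  let e := t.equivFin.symm
  refine ⟨Σ k : Fin t.card, κ (e k).1, inferInstance, fun p => T _ p.2, fun p => c _ p.2,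
    fun p => hci _ p.2, fun p => hcc _ p.2, ?_, ?_, fun p => ?_⟩
  · rintro ⟨k, i⟩ ⟨k', i'⟩ hne
    show Disjoint (Set.range (c (e k).1 i)) (Set.range (c (e k').1 i'))
    by_cases hk : k = k'
    · subst hk
      exact hcd _ fun h => hne (by rw [h])
    · have h1 : ∀ k i, Set.range (c (e k).1 i) ⊆ E (e k).1 := fun k i => by
        rw [← hcu (e k).1]; exact Set.subset_iUnion (fun i => Set.range (c (e k).1 i)) i
      refine Set.disjoint_left.2 fun x hx hx' => hk ?_
      exact e.injective (Subtype.ext ((h1 k i hx).symm.trans (h1 k' i' hx')))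
  · refine Set.eq_univ_of_forall fun s => ?_
    obtain ⟨r, hr, hs⟩ := Set.mem_iUnion₂.1 (ht.ge (Set.mem_univ s))
    have hk : (e (t.equivFin ⟨r, hr⟩)).1 = r := by simp [e]
    have hs' : s ∈ E (e (t.equivFin ⟨r, hr⟩)).1 := by rw [hk]; exact hs
    obtain ⟨i, hi⟩ := Set.mem_iUnion.1 ((hcu _).ge hs')
    exact Set.mem_iUnion.2 ⟨⟨t.equivFin ⟨r, hr⟩, i⟩, hi⟩
  · refine ((DegRank.isFinLocFreeOfDeg_iff j hfin (c _ p.2) (e p.1).1).2 fun z => ?_).1.1
    have := Set.subset_iUnion (fun i => Set.range (c (e p.1).1 i)) p.2 ⟨z, rfl⟩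
    rwa [hcu] at this

/-- Finitely many morphisms are simultaneously finite over the strata of a stratification. -/
theorem exists_strata_finite_family [CompactSpace Y] [QuasiSeparatedSpace Y] :
    ∀ (n : ℕ) (X : Fin n → Scheme.{u}) (j : ∀ a, X a ⟶ Y) [∀ a, AlgebraicGeometry.Etale (j a)]
      [∀ a, IsSeparated (j a)] [∀ a, QuasiCompact (j a)],
    ∃ (κ : Type) (_ : Finite κ) (T : κ → Scheme.{u}) (c : ∀ k, T k ⟶ Y),
      (∀ k, IsImmersion (c k)) ∧ (∀ k, Topology.IsConstructible (Set.range (c k))) ∧
      Pairwise (fun k l => Disjoint (Set.range (c k)) (Set.range (c l))) ∧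
      (⋃ k, Set.range (c k)) = Set.univ ∧ ∀ k a, IsFinite (pullback.snd (j a) (c k)) := by
  intro n
  induction n with
  | zero =>
    intro X j _ _ _
    refine ⟨Unit, inferInstance, fun _ => Y, fun _ => 𝟙 Y, fun _ => inferInstance, fun _ => ?_,
      fun k l h => absurd (Subsingleton.elim k l) h, ?_, fun _ a => a.elim0⟩
    · rw [show Set.range (𝟙 Y : Y ⟶ Y) = Set.univ from Set.range_id]; exact IsConstructible.univ
    · exact Set.eq_univ_of_forall fun y => Set.mem_iUnion.2 ⟨(), y, rfl⟩
  | succ n ih =>
    intro X j hje hjs hjq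
    obtain ⟨κ, _, T, c, hci, hcc, hcd, hcu, hcf⟩ := ih (fun a => X a.succ) (fun a => j a.succ)
    obtain ⟨μ, _, T', c', hci', hcc', hcd', hcu', hcf'⟩ := exists_strata_finite (j 0)
    refine ⟨κ × μ, inferInstance, fun p => pullback (c p.1) (c' p.2),
      fun p => pullback.fst (c p.1) (c' p.2) ≫ c p.1, fun p => ?_, fun p => ?_, fun p q hpq => ?_, ?_,
      fun p a => ?_⟩
    · haveI := hci p.1; haveI := hci' p.2; infer_instance
    · rw [Scheme.Pullback.range_fst_comp]; exact (hcc p.1).inter (hcc' p.2)
    · show Disjoint (Set.range _) (Set.range _)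
      rw [Scheme.Pullback.range_fst_comp, Scheme.Pullback.range_fst_comp]
      by_cases h : p.1 = q.1
      · exact (hcd' fun h' => hpq (Prod.ext h h')).mono Set.inter_subset_right Set.inter_subset_right
      · exact (hcd h).mono Set.inter_subset_left Set.inter_subset_left
    · refine Set.eq_univ_of_forall fun s => ?_
      obtain ⟨k, hk⟩ := Set.mem_iUnion.1 (hcu.ge (Set.mem_univ s))
      obtain ⟨m, hm⟩ := Set.mem_iUnion.1 (hcu'.ge (Set.mem_univ s))
      refine Set.mem_iUnion.2 ⟨(k, m), ?_⟩
      rw [Scheme.Pullback.range_fst_comp]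
      exact ⟨hk, hm⟩
    · have hstep : ∀ {S S' : Scheme.{u}} (b : S' ⟶ S) (c : S ⟶ Y),
          IsFinite (pullback.snd (j a) c) → IsFinite (pullback.snd (j a) (b ≫ c)) := by
        intro S S' b c h
        haveI := h
        let sq := (IsPullback.of_hasPullback (pullback.snd (j a) c) b).paste_horiz
            (IsPullback.of_hasPullback (j a) c)
        rw [← sq.isoPullback_inv_snd]
        infer_instance
      refine Fin.cases (motive := fun a => ∀ hstep : (∀ {S S' : Scheme.{u}} (b : S' ⟶ S) (c : S ⟶ Y),
          IsFinite (pullback.snd (j a) c) → IsFinite (pullback.snd (j a) (b ≫ c))),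
          IsFinite (pullback.snd (j a) (pullback.fst (c p.1) (c' p.2) ≫ c p.1))) ?_ ?_ a hstep
      · intro hstep
        rw [pullback.condition]
        exact hstep _ _ (hcf' p.2)
      · intro b hstep
        exact hstep _ _ (hcf p.1 b)

end Groth.Agent.Constr24
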