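import Groth.Agent.Lib.Constr24.NoethObj
import Groth.Agent.Lib.Constr24.Supp
import Groth.Agent.Lib.Constr24.Agree
import Mathlib.CategoryTheory.Limits.Shapes.Biproducts

/-!
# Presentations of constructible sheaves by extensions by zero
-/

universe u

set_option maxHeartbeats 800000

open CategoryTheory CategoryTheory.Limits AlgebraicGeometry Opposite Topology
open scoped ZeroObject
open Groth.Agent.EtStalk Groth.Agent.EtSite Groth.Agent.LocConst24

namespace Groth.Agent.Constr24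

variable {X : Scheme.{u}}

/-- Split off the first summand. -/
noncomputable def biproductSuccIso {C : Type*} [Category C] [Preadditive C] [HasFiniteBiproducts C]
    [HasBinaryBiproducts C]
    {n : ℕ} (f : Fin (n + 1) → C) : ⨁ f ≅ f 0 ⊞ ⨁ fun i : Fin n => f i.succ where
  hom := biprod.lift (biproduct.π f 0) (biproduct.lift fun i => biproduct.π f i.succ)
  inv := biprod.desc (biproduct.ι f 0) (biproduct.desc fun i => biproduct.ι f i.succ)
  hom_inv_id := by
    rw [biprod.lift_desc, biproduct.lift_desc, ← biproduct.total, Fin.sum_univ_succ]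
  inv_hom_id := by
    refine biprod.hom_ext' _ _ ?_ ?_
    · rw [biprod.inl_desc_assoc, Category.comp_id]
      refine biprod.hom_ext _ _ ?_ (biproduct.hom_ext _ _ fun i => ?_)
      · simp
      · simp [biproduct.ι_π_ne f (Fin.succ_ne_zero i).symm]
    · refine biproduct.hom_ext' _ _ fun k => ?_
      rw [biprod.inr_desc_assoc, Category.comp_id, biproduct.ι_desc_assoc]
      refine biprod.hom_ext _ _ ?_ (biproduct.hom_ext _ _ fun i => ?_)
      · simp [biproduct.ι_π_ne f (Fin.succ_ne_zero k)]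
      · by_cases h : k = i
        · subst h; simp
        · have h' : k.succ ≠ i.succ := fun e => h (Fin.succ_injective _ e)
          simp [biproduct.ι_π_ne f h',
            biproduct.ι_π_ne (fun i : Fin n => f i.succ) h]

theorem isConstructible_biproduct :
    ∀ {n : ℕ} (f : Fin n → EtCoh.Ab X), (∀ i, EtPBC.IsConstructible (f i)) →
      EtPBC.IsConstructible (⨁ f) := by
  intro n
  induction n with
  | zero =>
    intro f _
    refine isConstructible_of_isZero ((IsZero.iff_id_eq_zero _).2 ?_)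
    exact biproduct.hom_ext' _ _ fun i => i.elim0
  | succ n ih =>
    intro f hf
    have h0 : EtPBC.IsConstructible (f 0 ⊞ ⨁ fun i : Fin n => f i.succ) :=
      constructible_extension
        (S := ShortComplex.mk (biprod.inl : f 0 ⟶ f 0 ⊞ ⨁ fun i : Fin n => f i.succ) biprod.snd
          biprod.inl_snd)
        (ShortComplex.Splitting.ofHasBinaryBiproduct _ _).shortExact (hf 0) (ih _ fun i => hf i.succ)
    exact ExtShriek24.isConstructible_iso' (biproductSuccIso f).symm h0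

variable [CompactSpace X] [QuasiSeparatedSpace X]

theorem isConstructible_sum_extZeroConst {a : ℕ} (U : Fin a → X.Etale) (n : Fin a → ℕ)
    (hU : ∀ i, IsAffine (U i).left) (hn : ∀ i, 0 < n i) :
    EtPBC.IsConstructible (⨁ fun i => EtPBC.extZeroConst (U i) (ZMod (n i))) :=
  isConstructible_biproduct _ fun i => by
    haveI := hU i
    haveI : NeZero (n i) := ⟨(hn i).ne'⟩
    exact isConstructible_extZeroConst (U i) (ZMod (n i))

/-- Generators near a point. -/
theorem exists_surjective_at {F : EtCoh.Ab X} (hF : EtPBC.IsConstructible F) (P : ℕ → Prop)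
    (hP : ∀ {U : X.Etale} (s : F.obj.obj (op U)), IsOfFinAddOrder s → ∃ n, 0 < n ∧ P n ∧ n • s = 0)
    (x : X) : ∃ (a : ℕ) (U : Fin a → X.Etale) (n : Fin a → ℕ),
      (∀ i, 0 < n i ∧ P (n i) ∧ IsAffine (U i).left) ∧
      ∃ φ : (⨁ fun i => EtPBC.extZeroConst (U i) (ZMod (n i))) ⟶ F,
        ∀ (Ω : Type u) [Field Ω] [IsSepClosed Ω] (ξ : Spec (CommRingCat.of Ω) ⟶ X), ξ default = x →
          Function.Surjective ((EtCoh.stalk ξ).map φ) := by
  classical
  let ξ₀ := geomPt X x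
  haveI := finite_stalk hF ξ₀
  have key : ∀ q : (EtCoh.stalk ξ₀).obj F, ∃ (U : X.Etale) (y : fib ξ₀ U) (s : F.obj.obj (op U)) (n : ℕ),
      IsAffine U.left ∧ 0 < n ∧ P n ∧ n • s = 0 ∧ germ ξ₀ F y s = q := by
    intro q
    obtain ⟨V, y, s, rfl⟩ := germ_surjective ξ₀ F q
    obtain ⟨k, hk, hks⟩ := isOfFinAddOrder_iff_nsmul_eq_zero.1 (isOfFinAddOrder_of_finite (germ ξ₀ F y s))
    obtain ⟨W, g, z, hz, he⟩ := (germ_eq_iff ξ₀ F y (k • s) 0).1 (by rw [map_nsmul, hks, map_zero])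
    obtain ⟨A, hA, hzA, -⟩ :=
      exists_isAffineOpen_mem_and_subset (U := (⊤ : W.left.Opens)) (x := fibPt z) trivial
    have hfin : IsOfFinAddOrder (F.obj.map (subHom W A ≫ g).op s) :=
      isOfFinAddOrder_iff_nsmul_eq_zero.2 ⟨k, hk, by
        rw [← map_nsmul, op_comp, Functor.map_comp_apply, he, map_zero, map_zero]⟩
    obtain ⟨n, hn, hPn, hns⟩ := hP (F.obj.map (subHom W A ≫ g).op s) hfin
    let zl : Spec (CommRingCat.of (SeparableClosure (X.residueField x))) ⟶ W.left := z.left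
    obtain ⟨c, hc⟩ := LocConst24.comp_eq_of_mem_range A.ι zl (by rw [A.range_ι]; exact hzA)
    let z' : fib ξ₀ (sub W A) := Over.homMk c (by
      show c ≫ A.ι ≫ W.hom = ξ₀
      exact (Category.assoc _ _ _).symm.trans ((congrArg (· ≫ W.hom) hc).trans (Over.w z)))
    refine ⟨sub W A, z', _, n, hA, hn, hPn, hns, ?_⟩
    rw [germ_map, Functor.map_comp, ConcreteCategory.comp_apply,
      show (Scheme.pointSmallEtale ξ₀).fiber.map (subHom W A) z' = z from Over.OverMorphism.ext hc, hz]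
  choose U y s n hU hn hPn hns hgerm using key
  choose φ e he using fun q => exists_hom_extZeroConst F (U q) (n q) (s q) (hns q)
  let ε := (Finite.equivFin ((EtCoh.stalk ξ₀).obj F)).symm
  refine ⟨_, fun i => U (ε i), fun i => n (ε i), fun i => ⟨hn _, hPn _, hU _⟩,
    biproduct.desc fun i => φ (ε i), fun Ω _ _ ξ hξ => ?_⟩
  obtain ⟨b, rfl⟩ := exists_factor_geomPt ξ x hξ
  intro p
  obtain ⟨q, rfl⟩ := (bijective_stalkRes b ξ₀ F).2 p
  obtain ⟨i, rfl⟩ := ε.surjective q
  refine ⟨stalkRes b ξ₀ _ ((EtCoh.stalk ξ₀).map (biproduct.ι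
    (fun i => EtPBC.extZeroConst (U (ε i)) (ZMod (n (ε i)))) i) (germ ξ₀ _ (y (ε i)) (e (ε i)))), ?_⟩
  refine (NatTrans.naturality_apply (GrothendieckTopology.Point.Hom.sheafFiber
    (A := AddCommGrpCat.{u + 1}) (resPoint b ξ₀)) (biproduct.desc fun i => φ (ε i)) _).symm.trans ?_
  refine congrArg (stalkRes b ξ₀ F) ?_
  rw [← ConcreteCategory.comp_apply, ← Functor.map_comp, biproduct.ι_desc, germ_nat, he, hgerm]

/-- A constructible sheaf is a quotient of a finite sum of extensions by zero. -/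
theorem exists_epi_sum {F : EtCoh.Ab X} (hF : EtPBC.IsConstructible F) (P : ℕ → Prop)
    (hP : ∀ {U : X.Etale} (s : F.obj.obj (op U)), IsOfFinAddOrder s → ∃ n, 0 < n ∧ P n ∧ n • s = 0) :
    ∃ (a : ℕ) (U : Fin a → X.Etale) (n : Fin a → ℕ),
      (∀ i, 0 < n i ∧ P (n i) ∧ IsAffine (U i).left) ∧
      ∃ φ : (⨁ fun i => EtPBC.extZeroConst (U i) (ZMod (n i))) ⟶ F, Epi φ := by
  classical
  choose a U n hUn φ hφ using exists_surjective_at hF P hP
  let L : X → Set X := fun x => {y : X | ∀ (Ω : Type u) [Field Ω] [IsSepClosed Ω]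
    (ξ : Spec (CommRingCat.of Ω) ⟶ X), Set.range ξ = {y} → Function.Surjective ((EtCoh.stalk ξ).map (φ x))}
  have hL : ∀ x, Topology.IsConstructible (L x) := fun x =>
    isConstructible_surjective_locus (φ x)
      (isConstructible_sum_extZeroConst _ _ (fun i => (hUn x i).2.2) fun i => (hUn x i).1) hF
  obtain ⟨t, ht⟩ := exists_finite_subcover L hL (Set.eq_univ_of_forall fun x =>
    Set.mem_iUnion.2 ⟨x, fun Ω _ _ ξ hξ => hφ x Ω ξ (apply_default_of_range ξ hξ)⟩)
  let A := Σ x : t, Fin (a x.1)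
  let ε := (Fintype.equivFin A).symm
  let Φ : (⨁ fun i => EtPBC.extZeroConst (U (ε i).1.1 (ε i).2) (ZMod (n (ε i).1.1 (ε i).2))) ⟶ F :=
    biproduct.desc fun i => biproduct.ι
      (fun k => EtPBC.extZeroConst (U (ε i).1.1 k) (ZMod (n (ε i).1.1 k))) (ε i).2 ≫ φ (ε i).1.1
  refine ⟨_, fun i => U (ε i).1.1 (ε i).2, fun i => n (ε i).1.1 (ε i).2, fun i => hUn _ _, Φ,
    (epi_iff_stalk Φ).2 fun Ω _ _ ξ p => ?_⟩
  obtain ⟨x, hx, hxL⟩ := Set.mem_iUnion₂.1 (ht.ge (Set.mem_univ (ξ default)))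
  obtain ⟨q, hq⟩ := hxL Ω ξ (range_eq_singleton ξ) p
  have hfac : ∀ k : Fin (a x), ∃ κ : EtPBC.extZeroConst (U x k) (ZMod (n x k)) ⟶
      ⨁ fun i => EtPBC.extZeroConst (U (ε i).1.1 (ε i).2) (ZMod (n (ε i).1.1 (ε i).2)),
      κ ≫ Φ = biproduct.ι _ k ≫ φ x := by
    intro k
    have key : ∀ (i : Fin (Fintype.card A)) (z : A), ε i = z →
        ∃ κ : EtPBC.extZeroConst (U z.1.1 z.2) (ZMod (n z.1.1 z.2)) ⟶
          ⨁ fun i => EtPBC.extZeroConst (U (ε i).1.1 (ε i).2) (ZMod (n (ε i).1.1 (ε i).2)),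
          κ ≫ Φ = biproduct.ι (fun k => EtPBC.extZeroConst (U z.1.1 k) (ZMod (n z.1.1 k))) z.2 ≫
            φ z.1.1 := by
      rintro i _ rfl
      exact ⟨biproduct.ι (fun i => EtPBC.extZeroConst (U (ε i).1.1 (ε i).2)
        (ZMod (n (ε i).1.1 (ε i).2))) i, biproduct.ι_desc _ _⟩
    exact key (ε.symm ⟨⟨x, hx⟩, k⟩) ⟨⟨x, hx⟩, k⟩ (ε.apply_symm_apply _)
  choose κ hκ using hfac
  refine ⟨(EtCoh.stalk ξ).map (biproduct.desc κ) q, ?_⟩
  rw [← ConcreteCategory.comp_apply, ← Functor.map_comp,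
    show biproduct.desc κ ≫ Φ = φ x from biproduct.hom_ext' _ _ fun k => by
      rw [biproduct.ι_desc_assoc, hκ], hq]

/-- A sum of extensions by zero mapping onto the kernel of an epimorphism gives a presentation. -/
theorem nonempty_iso_cokernel {A B F : EtCoh.Ab X} (φ : B ⟶ F) [Epi φ] (ψ : A ⟶ kernel φ) [Epi ψ] :
    Nonempty (F ≅ cokernel (ψ ≫ kernel.ι φ)) :=
  ⟨((cokernelIsCokernel (kernel.ι φ)).coconePointUniqueUpToIso
    (Abelian.epiIsCokernelOfKernel _ (limit.isLimit (parallelPair φ 0)))).symm ≪≫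
    (cokernelEpiComp ψ (kernel.ι φ)).symm⟩

theorem exists_order (F : EtCoh.Ab X) {U : X.Etale} (s : F.obj.obj (op U)) (h : IsOfFinAddOrder s) :
    ∃ n, 0 < n ∧ True ∧ n • s = 0 :=
  let ⟨n, hn, hns⟩ := isOfFinAddOrder_iff_nsmul_eq_zero.1 h
  ⟨n, hn, trivial, hns⟩

theorem constructible_iff_presentation (F : EtCoh.Ab X) :
    EtPBC.IsConstructible F ↔
      ∃ (a b : ℕ) (U : Fin a → X.Etale) (V : Fin b → X.Etale) (n : Fin a → ℕ) (m : Fin b → ℕ),
        (∀ i, 0 < n i ∧ IsAffine (U i).left) ∧ (∀ j, 0 < m j ∧ IsAffine (V j).left) ∧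
        ∃ φ : (⨁ fun j => EtPBC.extZeroConst (V j) (ZMod (m j))) ⟶ (⨁ fun i => EtPBC.extZeroConst (U i) (ZMod (n i))),
          Nonempty (F ≅ cokernel φ) := by
  constructor
  · intro hF
    obtain ⟨a, U, n, hUn, φ, hφ⟩ := exists_epi_sum hF (fun _ => True) (exists_order F)
    have hK : EtPBC.IsConstructible (kernel φ) := constructible_kernel φ
      (isConstructible_sum_extZeroConst _ _ (fun i => (hUn i).2.2) fun i => (hUn i).1) hF
    obtain ⟨b, V, m, hVm, ψ, hψ⟩ := exists_epi_sum hK (fun _ => True) (exists_order _)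
    exact ⟨a, b, U, V, n, m, fun i => ⟨(hUn i).1, (hUn i).2.2⟩, fun i => ⟨(hVm i).1, (hVm i).2.2⟩,
      ψ ≫ kernel.ι φ, nonempty_iso_cokernel φ ψ⟩
  · rintro ⟨a, b, U, V, n, m, hU, hV, φ, ⟨e⟩⟩
    exact ExtShriek24.isConstructible_iso' e.symm (constructible_cokernel φ
      (isConstructible_sum_extZeroConst _ _ (fun j => (hV j).2) fun j => (hV j).1)
      (isConstructible_sum_extZeroConst _ _ (fun i => (hU i).2) fun i => (hU i).1))

omit [CompactSpace X] [QuasiSeparatedSpace X] in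
/-- `j_! (ℤ/n)` is killed by `n`. -/
theorem nsmul_id_extZeroConst (V : X.Etale) (n : ℕ) :
    n • 𝟙 (EtPBC.extZeroConst V (ZMod n)) = 0 := by
  let adj := (constantSheafAdj (X.smallEtaleTopology.over V) AddCommGrpCat.{u + 1}
    (T := Over.mk (𝟙 V)) Over.mkIdTerminal).comp (EtPBC.extZeroAdj V)
  apply (adj.homEquiv (AddCommGrpCat.of (ULift.{u + 1} (ZMod n))) _).injective
  rw [Adjunction.homEquiv_unit, Adjunction.homEquiv_unit]
  refine AddCommGrpCat.ext fun x => ?_
  have hx : n • x = 0 := ULift.ext _ _ (by simp)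
  show n • (adj.unit.app (AddCommGrpCat.of (ULift.{u + 1} (ZMod n))) x) = 0
  rw [← map_nsmul, hx, map_zero]

theorem exists_killed_presentation (n : ℕ) (hn : 0 < n) (F : EtCoh.Ab X)
    (hF : EtPBC.IsConstructible F) (hFn : EtCoh.KilledBy n F) :
    ∃ (a b : ℕ) (V : Fin a → X.Etale) (U : Fin b → X.Etale) (_ : ∀ j, IsAffine (V j).left)
      (_ : ∀ i, IsAffine (U i).left)
      (φ : (⨁ fun j => EtPBC.extZeroConst (V j) (ZMod n)) ⟶ ⨁ fun i => EtPBC.extZeroConst (U i) (ZMod n)),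
      Nonempty (F ≅ cokernel φ) := by
  obtain ⟨b, U, m, hUm, φ, hφ⟩ := exists_epi_sum hF (· = n) fun {W} s _ => ⟨n, hn, rfl, hFn W s⟩
  obtain rfl : m = fun _ => n := funext fun i => (hUm i).2.1
  have hkill : n • 𝟙 (⨁ fun i => EtPBC.extZeroConst (U i) (ZMod n)) = 0 :=
    biproduct.hom_ext' _ _ fun i => by
      rw [Preadditive.comp_nsmul, Category.comp_id, comp_zero,
        ← Category.id_comp (biproduct.ι (fun i => EtPBC.extZeroConst (U i) (ZMod n)) i),
        ← Preadditive.nsmul_comp, nsmul_id_extZeroConst, zero_comp]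
  have hK : EtPBC.IsConstructible (kernel φ) := constructible_kernel φ
    (isConstructible_sum_extZeroConst _ _ (fun i => (hUm i).2.2) fun _ => hn) hF
  have hkK : ∀ (W : X.Etale) (s : (kernel φ).obj.obj (op W)), n • s = 0 := fun W s => by
    apply (mono_iff_app_injective (kernel.ι φ)).1 inferInstance (op W)
    rw [map_nsmul, map_zero]
    exact ConcreteCategory.congr_hom (congrArg (fun t : (⨁ fun i => EtPBC.extZeroConst (U i) (ZMod n)) ⟶
      (⨁ fun i => EtPBC.extZeroConst (U i) (ZMod n)) => t.hom.app (op W)) hkill) _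
  obtain ⟨a, V, l, hVl, ψ, hψ⟩ := exists_epi_sum hK (· = n) fun {W} s _ => ⟨n, hn, rfl, hkK W s⟩
  obtain rfl : l = fun _ => n := funext fun i => (hVl i).2.1
  exact ⟨a, b, V, U, fun j => (hVl j).2.2, fun i => (hUm i).2.2, ψ ≫ kernel.ι φ,
    nonempty_iso_cokernel φ ψ⟩

end Groth.Agent.Constr24
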