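import Groth.Agent.Lib.Constr24.Descent
import Groth.Agent.Lib.ExtShriek24.Gluing
import Groth.Agent.Lib.ExtShriek24.Constructible
import Groth.Agent.Lib.SchBasic.Basic
import Mathlib.RingTheory.Finiteness.Basic
import Mathlib.LinearAlgebra.Dimension.Constructions

/-!
# Finite direct images of constructible sheaves are constructible
-/

universe u

set_option maxHeartbeats 1000000

open CategoryTheory CategoryTheory.Limits AlgebraicGeometry Opposite Topology
open Groth.Agent.EtStalk

namespace Groth.Agent.Constr24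

open Groth.Agent.LocConst24

variable {X Y : Scheme.{u}}

/-- At most `d` points of every geometric fibre carry non-zero stalks. -/
def FibreBound (f : X ⟶ Y) (F : EtCoh.Ab X) (d : ℕ) : Prop :=
  ∀ (Ω : Type u) [Field Ω] [IsAlgClosed Ω] (ξ : Spec (CommRingCat.of Ω) ⟶ Y) (m : ℕ)
    (ζ : Fin m → fLifts f ξ), Function.Injective ζ →
      (∀ i, (ζ i).1 default ∉ zeroLocus F) → m ≤ d

theorem exists_fibreBound [IsAffine Y] (f : X ⟶ Y) [IsFinite f] (F : EtCoh.Ab X) :
    ∃ d, FibreBound f F d := by
  haveI : IsAffine X := isAffine_of_isAffineHom f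
  have hfin : f.appTop.hom.Finite := f.finite_app _ (isAffineOpen_top Y)
  letI := f.appTop.hom.toAlgebra
  haveI : Module.Finite Γ(Y, ⊤) Γ(X, ⊤) := hfin
  obtain ⟨d, g, hg⟩ := Module.Finite.exists_fin (R := Γ(Y, ⊤)) (M := Γ(X, ⊤))
  refine ⟨d, fun Ω _ _ ξ m ζ hζ _ => ?_⟩
  let ψ : Fin m → (Γ(X, ⊤) →* Ω) := fun i =>
    (((ζ i).1.appTop ≫ (Scheme.ΓSpecIso (CommRingCat.of Ω)).hom).hom : Γ(X, ⊤) →* Ω)
  let χ : Γ(Y, ⊤) → Ω := fun a => (ξ.appTop ≫ (Scheme.ΓSpecIso (CommRingCat.of Ω)).hom).hom a
  have hψ : Function.Injective ψ := fun i j h => hζ (Subtype.ext (ext_of_isAffine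
    ((cancel_mono (Scheme.ΓSpecIso (CommRingCat.of Ω)).hom).1
      (CommRingCat.hom_ext (RingHom.ext fun b => DFunLike.congr_fun h b)))))
  have hsmul : ∀ i (a : Γ(Y, ⊤)) (b : Γ(X, ⊤)), ψ i (a • b) = χ a * ψ i b := fun i a b => by
    rw [Algebra.smul_def, map_mul]
    refine congrArg (· * ψ i b) ?_
    show ((ζ i).1.appTop ≫ _).hom (f.appTop.hom a) = _
    rw [← CommRingCat.comp_apply, ← Category.assoc, ← Scheme.Hom.comp_appTop]
    simp only [χ, (ζ i).2]
  have hli : LinearIndependent Ω (fun i k => ψ i (g k) : Fin m → Fin d → Ω) := by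
    rw [Fintype.linearIndependent_iff]
    intro c hc
    have hall : ∀ b, ∑ i, c i * ψ i b = 0 := by
      intro b
      obtain ⟨a, rfl⟩ := (Submodule.mem_span_range_iff_exists_fun Γ(Y, ⊤)).1
        (hg.ge (Submodule.mem_top : b ∈ ⊤))
      have : ∀ i, ψ i (∑ k, a k • g k) = ∑ k, χ (a k) * ψ i (g k) := fun i =>
        (map_sum (((ζ i).1.appTop ≫ (Scheme.ΓSpecIso (CommRingCat.of Ω)).hom).hom) _ _).trans
          (Finset.sum_congr rfl fun k _ => hsmul i (a k) (g k))
      simp only [this, Finset.mul_sum]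
      rw [Finset.sum_comm]
      refine Finset.sum_eq_zero fun k _ => ?_
      have hk := congrFun hc k
      simp only [Finset.sum_apply, Pi.smul_apply, smul_eq_mul, Pi.zero_apply] at hk
      calc ∑ i, c i * (χ (a k) * ψ i (g k)) = χ (a k) * ∑ i, c i * ψ i (g k) := by
            rw [Finset.mul_sum]; exact Finset.sum_congr rfl fun i _ => mul_left_comm _ _ _
        _ = 0 := by rw [hk, mul_zero]
    refine Fintype.linearIndependent_iff.1 ((linearIndependent_monoidHom Γ(X, ⊤) Ω).comp ψ hψ) c ?_
    funext b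
    simp only [Finset.sum_apply, Pi.smul_apply, smul_eq_mul, Function.comp_apply, Pi.zero_apply]
    exact hall b
  simpa using hli.fintype_card_le_finrank

theorem preimage_zeroLocus_subset (g : X ⟶ Y) (F : EtCoh.Ab Y) :
    g ⁻¹' zeroLocus F ⊆ zeroLocus ((EtCoh.pull g).obj F) := fun z hz Ω _ _ ζ hζ => by
  have hξ := hz Ω (ζ ≫ g) (by
    rw [range_eq_singleton, Scheme.Hom.comp_apply, apply_default_of_range ζ hζ])
  exact (Equiv.ofBijective _ (ConcreteCategory.bijective_of_isIso (stalkPull g ζ F))).symm.subsingleton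

theorem zeroLocus_subset_of_mono {F G : EtCoh.Ab X} (φ : G ⟶ F) [Mono φ] :
    zeroLocus F ⊆ zeroLocus G := fun z hz Ω _ _ ζ hζ => by
  haveI := hz Ω ζ hζ
  exact ((mono_iff_stalk φ).1 inferInstance Ω ζ).subsingleton

theorem isConstructible_of_pull_finite [CompactSpace Y] [QuasiSeparatedSpace Y] {κ : Type} [Finite κ]
    (T : κ → Scheme.{u}) [∀ a, CompactSpace (T a)] [∀ a, QuasiSeparatedSpace (T a)]
    (f : ∀ a, T a ⟶ Y) (hf : (⋃ a, Set.range (f a)) = Set.univ) (F : EtCoh.Ab Y)
    (hF : ∀ a, EtPBC.IsConstructible ((EtCoh.pull (f a)).obj F)) : EtPBC.IsConstructible F := by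
  haveI := Fintype.ofFinite κ
  let e := (Fintype.equivFin κ).symm
  refine isConstructible_of_pull_family (fun i => T (e i)) (fun i => f (e i)) ?_ F fun i => hF (e i)
  refine Set.eq_univ_of_forall fun y => ?_
  obtain ⟨a, ha⟩ := Set.mem_iUnion.1 (hf.ge (Set.mem_univ y))
  refine Set.mem_iUnion.2 ⟨e.symm a, ?_⟩
  show y ∈ Set.range (f (e (e.symm a)))
  rw [Equiv.apply_symm_apply]
  exact ha

theorem compactSpace_of_constructible_range [CompactSpace X] [QuasiSeparatedSpace X] {T : Scheme.{u}}
    (g : T ⟶ X) [IsImmersion g] (h : Topology.IsConstructible (Set.range g)) : CompactSpace T :=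
  ⟨g.isEmbedding.isCompact_iff.2 (by rw [Set.image_univ]; exact isCompact_constructible h)⟩

theorem isConstructible_push_bound : ∀ (d : ℕ) {X Y : Scheme.{u}} [CompactSpace Y]
    [QuasiSeparatedSpace Y] (f : X ⟶ Y) [IsFinite f] [LocallyOfFinitePresentation f] (F : EtCoh.Ab X),
    EtPBC.IsConstructible F → FibreBound f F d → EtPBC.IsConstructible ((EtCoh.push f).obj F) := by
  intro d
  induction d with
  | zero =>
    intro X Y _ _ f _ _ F _ hb
    have hz : ∀ z : X, z ∈ zeroLocus F := fun z => by
      by_contra hz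
      exact absurd (hb (AlgebraicClosure (X.residueField z)) (algPt X z ≫ f) 1
        (fun _ => ⟨algPt X z, rfl⟩) (fun a b _ => Subsingleton.elim a b)
        (fun _ => by rw [algPt_default]; exact hz)) (by omega)
    have h0 : IsZero F := by
      rw [IsZero.iff_id_eq_zero]
      refine eq_zero_of_stalk_alg _ fun Ω _ _ ξ => ?_
      haveI := hz (ξ default) Ω ξ (range_eq_singleton ξ)
      intros; exact Subsingleton.elim _ _
    exact isConstructible_of_isZero ((EtCoh.push f).map_isZero h0)
  | succ d ih =>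
    intro X Y _ _ f _ _ F hF hb
    haveI : CompactSpace X := QuasiCompact.compactSpace_of_compactSpace f
    haveI : QuasiSeparatedSpace X := quasiSeparatedSpace_of_quasiSeparated f
    have hS := (isConstructible_zeroLocus hF).compl
    obtain ⟨α, _, T, g, hgi, hgc, -, hgu⟩ := exists_pieces hS
    have hR := (f.isConstructible_image hS).compl
    obtain ⟨β, _, T', g', hgi', hgc', -, hgu'⟩ := exists_pieces hR
    let P : α ⊕ β → Scheme.{u} := Sum.elim T T'
    let h : ∀ a, P a ⟶ Y := fun a => match a with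
      | Sum.inl a => g a ≫ f
      | Sum.inr b => g' b
    haveI hP : ∀ a, CompactSpace (P a) := fun a => by
      rcases a with a | b
      · haveI := hgi a
        show CompactSpace (T a)
        exact compactSpace_of_constructible_range (g a) (hgc a)
      · haveI := hgi' b
        show CompactSpace (T' b)
        exact compactSpace_of_constructible_range (g' b) (hgc' b)
    haveI : ∀ a, QuasiSeparatedSpace (P a) := fun a => by
      rcases a with a | b
      · haveI := hgi a
        show QuasiSeparatedSpace (T a)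
        exact quasiSeparatedSpace_of_quasiSeparated (g a)
      · haveI := hgi' b
        show QuasiSeparatedSpace (T' b)
        exact quasiSeparatedSpace_of_quasiSeparated (g' b)
    refine isConstructible_of_pull_finite P h ?_ _ fun a => ?_
    · refine Set.eq_univ_of_forall fun y => ?_
      by_cases hy : y ∈ f '' (zeroLocus F)ᶜ
      · obtain ⟨x, hx, rfl⟩ := hy
        obtain ⟨a, t, ht⟩ := Set.mem_iUnion.1 (hgu.ge hx)
        exact Set.mem_iUnion.2 ⟨Sum.inl a, t, by
          show (g a ≫ f) t = _
          rw [Scheme.Hom.comp_apply, ht]⟩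
      · obtain ⟨b, t, ht⟩ := Set.mem_iUnion.1 (hgu'.ge hy)
        exact Set.mem_iUnion.2 ⟨Sum.inr b, t, ht⟩
    let p₁ := pullback.fst f (h a)
    let p₂ := pullback.snd f (h a)
    have sq : IsPullback p₁ p₂ f (h a) := IsPullback.of_hasPullback f (h a)
    haveI := EtStalk.isIso_baseChange0_finite f (h a) p₂ p₁ sq F
    refine ExtShriek24.isConstructible_iso' (asIso (EtCoh.baseChange0 f (h a) p₂ p₁ sq.w F)).symm ?_
    have hF' : EtPBC.IsConstructible ((EtCoh.pull p₁).obj F) := isConstructible_pull p₁ hF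
    rcases a with a | b
    · haveI := hgi a
      haveI : CompactSpace ↥(P (Sum.inl a)) := hP _
      let s : P (Sum.inl a) ⟶ pullback f (h (Sum.inl a)) :=
        pullback.lift (g a) (𝟙 _) (Category.id_comp _).symm
      have hs₁ : s ≫ p₁ = g a := pullback.lift_fst _ _ _
      have hs₂ : s ≫ p₂ = 𝟙 _ := pullback.lift_snd _ _ _
      haveI : IsClosedImmersion (s ≫ p₂) := by rw [hs₂]; infer_instance
      haveI : IsClosedImmersion s := IsClosedImmersion.of_comp s p₂
      haveI : LocallyOfFinitePresentation (s ≫ p₂) := by rw [hs₂]; infer_instance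
      haveI : LocallyOfFinitePresentation s := SchBasic.locallyOfFinitePresentation_of_comp s p₂
      haveI : CompactSpace ↥(pullback f (h (Sum.inl a))) :=
        QuasiCompact.compactSpace_of_compactSpace p₂
      haveI : QuasiSeparatedSpace ↥(pullback f (h (Sum.inl a))) :=
        quasiSeparatedSpace_of_quasiSeparated p₂
      let U : (pullback f (h (Sum.inl a))).Opens := ⟨(Set.range s)ᶜ, s.isClosedMap.isClosed_range.isOpen_compl⟩
      have hUc : IsCompact (U : Set ↥(pullback f (h (Sum.inl a)))) := by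
        refine isCompact_constructible (IsConstructible.compl ?_)
        rw [← Set.image_univ]
        exact s.isConstructible_image IsConstructible.univ
      haveI : CompactSpace U.toScheme := isCompact_iff_compactSpace.1 hUc
      haveI : QuasiSeparatedSpace U.toScheme :=
        QuasiSeparatedSpace.of_isOpenEmbedding U.ι.isOpenEmbedding
      haveI : QuasiCompact U.ι := quasiCompact_of_compactSpace U.ι
      obtain ⟨w, hw⟩ := ExtShriek24.shortExact_extZero_pull s U rfl ((EtCoh.pull p₁).obj F)
      refine constructible_extension (hw.map_of_exact (EtCoh.push p₂)) ?_ ?_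
      · refine ih p₂ _ (ExtShriek24.isConstructible_extZero U.ι
          (ExtShriek24.isConstructible_iso' ((restrPullIso U.ι).app _).symm
            (isConstructible_pull U.ι hF'))) ?_
        intro Ω _ _ ξ m ζ hζ hne
        haveI : Mono ((EtShriek.extZeroAdj U.ι).counit.app ((EtCoh.pull p₁).obj F)) := hw.mono_f
        have hlift : ∀ i, (ζ i).1 default ∉ Set.range s := fun i hi => hne i fun Ω' _ _ ξ' hξ' =>
          AddCommGrpCat.subsingleton_of_isZero (stalk_extZero_isZero U.ι _ ξ' (by
            rw [apply_default_of_range ξ' hξ', U.range_ι]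
            exact fun h' => h' hi))
        have hne' : ∀ i, p₁ ((ζ i).1 default) ∉ zeroLocus F := fun i hi => hne i
          (zeroLocus_subset_of_mono ((EtShriek.extZeroAdj U.ι).counit.app ((EtCoh.pull p₁).obj F))
            (preimage_zeroLocus_subset p₁ F hi))
        have hs' : (ξ ≫ s) ≫ p₂ = ξ := by rw [Category.assoc, hs₂, Category.comp_id]
        let l : Fin (m + 1) → fLifts p₂ ξ := Fin.cons ⟨ξ ≫ s, hs'⟩ ζ
        have hl : Function.Injective l := Fin.cons_injective_iff.2
          ⟨fun ⟨i, hi⟩ => hlift i (by rw [hi]; exact ⟨_, (Scheme.Hom.comp_apply _ _ _).symm⟩), hζ⟩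
        have := hb Ω (ξ ≫ h (Sum.inl a)) (m + 1)
          (fun i => downLift f (h (Sum.inl a)) p₂ p₁ sq.w ξ (l i))
          (fun i j hij => hl ((bijective_downLift f (h (Sum.inl a)) p₂ p₁ ξ sq).1 hij)) (fun i => by
            refine Fin.cases ?_ (fun j => ?_) i
            · show ((ξ ≫ s) ≫ p₁) default ∉ _
              rw [Category.assoc, hs₁, Scheme.Hom.comp_apply]
              exact hgu.le (Set.mem_iUnion.2 ⟨a, _, rfl⟩)
            · show (((l j.succ).1) ≫ p₁) default ∉ _
              simp only [l, Fin.cons_succ, Scheme.Hom.comp_apply]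
              exact hne' j)
        omega
      · refine ExtShriek24.isConstructible_iso'
          (((EtCoh.pushComp p₂ s).app _).symm) ?_
        haveI : IsFinite (s ≫ p₂) := inferInstance
        haveI : AlgebraicGeometry.Etale (s ≫ p₂) := by rw [hs₂]; infer_instance
        exact isConstructible_push (s ≫ p₂) (isConstructible_pull s hF')
    · haveI := hgi' b
      refine ih p₂ _ hF' fun Ω _ _ ξ m ζ _ hne => ?_
      by_contra hm
      refine hne ⟨0, by omega⟩ (preimage_zeroLocus_subset p₁ F ?_)
      show p₁ _ ∈ zeroLocus F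
      by_contra hx
      refine hgu'.le (Set.mem_iUnion.2 ⟨b, p₂ ((ζ ⟨0, by omega⟩).1 default), rfl⟩) ⟨_, hx, ?_⟩
      rw [← Scheme.Hom.comp_apply, ← Scheme.Hom.comp_apply, sq.w, Scheme.Hom.comp_apply]
      rfl

/-- Direct images of constructible sheaves along finite morphisms of finite presentation. -/
theorem isConstructible_push_finite (f : X ⟶ Y) [IsFinite f] [LocallyOfFinitePresentation f]
    {F : EtCoh.Ab X} (hF : EtPBC.IsConstructible F) :
    EtPBC.IsConstructible ((EtCoh.push f).obj F) := by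
  refine isConstructible_of_cover (fun V : Y.affineOpens => V.1) (iSup_affineOpens_eq_top Y) fun V => ?_
  haveI : IsAffine V.1.toScheme := V.2
  have sq : IsPullback (f ⁻¹ᵁ V.1).ι (f ∣_ V.1) f V.1.ι := (isPullback_morphismRestrict f V.1).flip
  have := EtStalk.isIso_baseChange0_finite f V.1.ι (f ∣_ V.1) (f ⁻¹ᵁ V.1).ι sq F
  refine ExtShriek24.isConstructible_iso'
    (asIso (EtCoh.baseChange0 f V.1.ι (f ∣_ V.1) (f ⁻¹ᵁ V.1).ι sq.w F)).symm ?_
  haveI : IsFinite (f ∣_ V.1) := MorphismProperty.of_isPullback sq ‹IsFinite f›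
  obtain ⟨d, hd⟩ := exists_fibreBound (f ∣_ V.1) ((EtCoh.pull (f ⁻¹ᵁ V.1).ι).obj F)
  exact isConstructible_push_bound d (f ∣_ V.1) _ (isConstructible_pull _ hF) hd

end Groth.Agent.Constr24
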