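import Groth.Agent.Lib.Constr24.FiniteStrata
import Groth.Agent.Lib.HTop25.Basic

/-!
# Stratifications over which quasi-compact quasi-separated étale morphisms become finite
-/

universe u

set_option maxHeartbeats 400000

open CategoryTheory CategoryTheory.Limits AlgebraicGeometry Opposite Topology

namespace Groth.Agent.Constr24

variable {U Y : Scheme.{u}}

/-- A scheme covered by finitely many opens, each finite over the base along with their pairwise
intersections, is finite over the base. -/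
theorem isFinite_of_open_cover {C T : Scheme.{u}} (p : C ⟶ T) (m : ℕ) (P : Fin m → C.Opens)
    (hcov : (⋃ a, (P a : Set C)) = Set.univ) (h₁ : ∀ a, IsFinite ((P a).ι ≫ p))
    (h₂ : ∀ a b, IsFinite ((P a ⊓ P b).ι ≫ p)) : IsFinite p := by
  classical
  have hcl : ∀ a, IsClosed (P a : Set C) := fun a => by
    rw [← isOpen_compl_iff]
    have hsub : ∀ b, IsClosed (((P b).ι ⁻¹' (P a : Set C)) : Set (P b).toScheme) := fun b => by
      haveI := h₁ b
      haveI := h₂ a b
      let i := C.homOfLE (inf_le_right : P a ⊓ P b ≤ P b)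
      haveI : IsFinite (i ≫ (P b).ι ≫ p) := by rw [← Category.assoc, Scheme.homOfLE_ι]; infer_instance
      haveI : IsFinite i := IsFinite.of_comp i ((P b).ι ≫ p)
      have hr : Set.range i = (P b).ι ⁻¹' (P a : Set C) := by
        rw [show Set.range i = (i.opensRange : Set _) from rfl, Scheme.opensRange_homOfLE]
        ext z
        exact ⟨fun hz => hz.1, fun hz => ⟨hz, z.2⟩⟩
      rw [← hr]
      exact i.isClosedMap.isClosed_range
    have : (P a : Set C)ᶜ = ⋃ b, (P b).ι '' ((P b).ι ⁻¹' (P a : Set C))ᶜ := by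
      ext z
      constructor
      · intro hz
        obtain ⟨b, hb⟩ := Set.mem_iUnion.1 (hcov.ge (Set.mem_univ z))
        exact Set.mem_iUnion.2 ⟨b, ⟨z, hb⟩, hz, rfl⟩
      · intro hz
        obtain ⟨b, z', hz', rfl⟩ := Set.mem_iUnion.1 hz
        exact hz'
    rw [this]
    exact isOpen_iUnion fun b => (P b).ι.isOpenEmbedding.isOpenMap _ (hsub b).isOpen_compl
  let D : ULift.{u} (Fin m) → C.Opens := fun a =>
    ⟨(P a.down : Set C) ∩ ⋂ b : {b // b < a.down}, (P b.1 : Set C)ᶜ,
      (P a.down).2.inter (isOpen_iInter_of_finite fun b => (hcl b.1).isOpen_compl)⟩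
  have hDP : ∀ a, D a ≤ P a.down := fun a => Set.inter_subset_left
  haveI hDf : ∀ a, IsFinite ((D a).ι ≫ p) := fun a => by
    haveI := h₁ a.down
    let i := C.homOfLE (hDP a)
    have hDc : IsClosed (D a : Set C) :=
      (hcl a.down).inter (isClosed_iInter fun b => (P b.1).2.isClosed_compl)
    haveI : IsClosedImmersion i := IsClosedImmersion.of_isPreimmersion i (by
      rw [show Set.range i = (i.opensRange : Set _) from rfl, Scheme.opensRange_homOfLE]
      exact hDc.preimage (P a.down).ι.continuous)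
    rw [← Scheme.homOfLE_ι C (hDP a), Category.assoc]
    exact inferInstanceAs (IsFinite (i ≫ (P a.down).ι ≫ p))
  have hdisj : Pairwise (Function.onFun Disjoint fun a => (D a).ι.opensRange) := by
    intro a b hab
    simp only [Function.onFun, Scheme.Opens.opensRange_ι]
    rw [← TopologicalSpace.Opens.coe_disjoint]
    rcases lt_trichotomy a.down b.down with h | h | h
    · exact Set.disjoint_left.2 fun z hz hz' => Set.mem_iInter.1 hz'.2 ⟨a.down, h⟩ hz.1
    · exact absurd (ULift.ext _ _ h) hab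
    · exact Set.disjoint_left.2 fun z hz hz' => Set.mem_iInter.1 hz.2 ⟨b.down, h⟩ hz'.1
  have hDcov : ⨆ a, (D a).ι.opensRange = ⊤ := by
    simp only [Scheme.Opens.opensRange_ι]
    refine eq_top_iff.2 fun z _ => ?_
    have h := Set.mem_iUnion.1 (hcov.ge (Set.mem_univ z))
    obtain ⟨a, ha, hmin⟩ := (Finset.univ.filter fun a => z ∈ P a).exists_minimalFor id
      ⟨h.choose, Finset.mem_filter.2 ⟨Finset.mem_univ _, h.choose_spec⟩⟩
    refine TopologicalSpace.Opens.mem_iSup.2 ⟨⟨a⟩, (Finset.mem_filter.1 ha).2, Set.mem_iInter.2 fun b hb => ?_⟩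
    exact absurd (hmin (j := b.1) (Finset.mem_filter.2 ⟨Finset.mem_univ _, hb⟩) b.2.le) (not_le.2 b.2)
  obtain ⟨hc⟩ := nonempty_isColimit_cofanMk_of (fun a => (D a).ι) hDcov hdisj
  haveI : IsIso (Sigma.desc fun a => (D a).ι) := by
    have := (Cofan.nonempty_isColimit_iff_isIso_sigmaDesc (Cofan.mk C fun a => (D a).ι)).1 ⟨hc⟩
    exact this
  have hp : p = inv (Sigma.desc fun a => (D a).ι) ≫ Sigma.desc (fun a => (D a).ι ≫ p) := by
    rw [IsIso.eq_inv_comp]
    exact Sigma.hom_ext _ _ fun a => by rw [← Category.assoc, Sigma.ι_desc, Sigma.ι_desc]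
  haveI := Groth.Agent.HTop25.isFinite_sigmaDesc fun a => (D a).ι ≫ p
  rw [hp]
  infer_instance

theorem isFinite_open_of_family {j : U ⟶ Y} {T : Scheme.{u}} (c : T ⟶ Y) (O : U.Opens)
    (h : IsFinite (pullback.snd (O.ι ≫ j) c)) :
    IsFinite ((pullback.fst j c ⁻¹ᵁ O).ι ≫ pullback.snd j c) := by
  let p₁ := pullback.fst j c
  haveI : IsFinite (pullback.snd O.ι p₁ ≫ pullback.snd j c) := by
    rw [← pullbackRightPullbackFstIso_hom_snd j c O.ι]
    infer_instance
  have hr : Set.range (pullback.snd O.ι p₁) = Set.range (p₁ ⁻¹ᵁ O).ι := by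
    rw [Scheme.Pullback.range_snd, O.range_ι, (p₁ ⁻¹ᵁ O).range_ι]
    rfl
  rw [← IsOpenImmersion.isoOfRangeEq_inv_fac (pullback.snd O.ι p₁) (p₁ ⁻¹ᵁ O).ι hr, Category.assoc]
  infer_instance

/-- A quasi-compact quasi-separated étale scheme is finite over the strata of a stratification. -/
theorem exists_strata_finite_qs [CompactSpace U] [QuasiSeparatedSpace U] [CompactSpace Y]
    [QuasiSeparatedSpace Y] (j : U ⟶ Y) [AlgebraicGeometry.Etale j] :
    ∃ (n : ℕ) (T : Fin n → Scheme.{u}) (g : ∀ i, T i ⟶ Y),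
      (∀ i, IsImmersion (g i)) ∧ (∀ i, Topology.IsConstructible (Set.range (g i))) ∧
      Pairwise (fun i i' => Disjoint (Set.range (g i)) (Set.range (g i'))) ∧
      (⋃ i, Set.range (g i)) = Set.univ ∧ ∀ i, IsFinite (pullback.snd j (g i)) := by
  classical
  obtain ⟨t, ht⟩ := (isCompact_univ (X := U)).elim_finite_subcover (fun V : U.affineOpens => (V.1 : Set U))
    (fun V => V.1.2) (fun x _ => by
      obtain ⟨V, hV, hxV, -⟩ := exists_affine_le (⊤ : U.Opens) (x := x) trivial
      exact Set.mem_iUnion.2 ⟨⟨V, hV⟩, hxV⟩)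
  let W : Fin t.card → U.affineOpens := fun a => (t.equivFin.symm a).1
  let A := Fin t.card ⊕ (Fin t.card × Fin t.card)
  let eA := Fintype.equivFin A
  let O : A → U.Opens := Sum.elim (fun a => (W a).1) (fun ab => (W ab.1).1 ⊓ (W ab.2).1)
  have hO : ∀ a, IsCompact (O a : Set U) ∧ ∃ V : U.Opens, IsAffineOpen V ∧ O a ≤ V := fun a => by
    rcases a with a | ⟨a, b⟩
    · exact ⟨(W a).2.isCompact, _, (W a).2, le_rfl⟩
    · exact ⟨QuasiSeparatedSpace.inter_isCompact _ _ (W a).1.2 (W a).2.isCompact (W b).1.2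
        (W b).2.isCompact, _, (W a).2, inf_le_left⟩
  haveI : ∀ a, CompactSpace (O (eA.symm a)).toScheme := fun a => isCompact_iff_compactSpace.1 (hO _).1
  haveI : ∀ a, AlgebraicGeometry.Etale ((O (eA.symm a)).ι ≫ j) := fun a => inferInstance
  haveI : ∀ a, IsSeparated ((O (eA.symm a)).ι ≫ j) := fun a => by
    obtain ⟨V, hV, hle⟩ := (hO (eA.symm a)).2
    haveI : IsAffine V.toScheme := hV
    haveI : IsSeparated (V.ι ≫ j) := IsSeparated.of_comp (V.ι ≫ j) (terminal.from Y)
    rw [← Scheme.homOfLE_ι U hle, Category.assoc]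
    infer_instance
  haveI : ∀ a, QuasiCompact ((O (eA.symm a)).ι ≫ j) := fun a => quasiCompact_of_compactSpace _
  obtain ⟨κ, _, T, c, hci, hcc, hcd, hcu, hcf⟩ :=
    exists_strata_finite_family (Fintype.card A) (fun a => (O (eA.symm a)).toScheme)
      (fun a => (O (eA.symm a)).ι ≫ j)
  haveI := Fintype.ofFinite κ
  let e := (Fintype.equivFin κ).symm
  refine ⟨Fintype.card κ, fun i => T (e i), fun i => c (e i), fun i => hci _, fun i => hcc _,
    fun i i' h => hcd fun h' => h (e.injective h'), ?_, fun i => ?_⟩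
  · refine Set.eq_univ_of_forall fun s => ?_
    obtain ⟨k, hk⟩ := Set.mem_iUnion.1 (hcu.ge (Set.mem_univ s))
    refine Set.mem_iUnion.2 ⟨e.symm k, ?_⟩
    show s ∈ Set.range (c (e (e.symm k)))
    rw [Equiv.apply_symm_apply]
    exact hk
  · have key : ∀ x : A, IsFinite ((pullback.fst j (c (e i)) ⁻¹ᵁ O x).ι ≫ pullback.snd j (c (e i))) :=
      fun x => by
        have := isFinite_open_of_family (c (e i)) (O (eA.symm (eA x))) (hcf (e i) (eA x))
        rwa [Equiv.symm_apply_apply] at this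
    refine isFinite_of_open_cover _ t.card (fun a => pullback.fst j (c (e i)) ⁻¹ᵁ (W a).1) ?_
      (fun a => key (Sum.inl a)) (fun a b => key (Sum.inr (a, b)))
    refine Set.eq_univ_of_forall fun z => ?_
    obtain ⟨V, hV, hzV⟩ := Set.mem_iUnion₂.1 (ht (Set.mem_univ (pullback.fst j (c (e i)) z)))
    refine Set.mem_iUnion.2 ⟨t.equivFin ⟨V, hV⟩, ?_⟩
    show pullback.fst j (c (e i)) z ∈ (W (t.equivFin ⟨V, hV⟩)).1
    simp only [W, Equiv.symm_apply_apply]
    exact hzV

end Groth.Agent.Constr24
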